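import Cfsg.Agent.Lib.Linear.MinIndexOrth.Main

/-!
# A point regular at one singular vector and with a full centre at another
-/

set_option autoImplicit false

namespace Cfsg.Lib.Linear.MinIndexOrth

open Module Cfsg.Lib.Linear.Orth
open scoped Matrix

noncomputable section

variable {ι : Type} [Fintype ι] [DecidableEq ι] {F : Type*} [Field F] [Finite F]
  {Q : (ι → F) → F} {B : LinearMap.BilinForm F (ι → F)} {α : Type*}
  [MulAction ↥(Root Q B ⊤) α]

/-- No element with centre `v` except the identity fixes `y`. -/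
def Reg (Q : (ι → F) → F) (B : LinearMap.BilinForm F (ι → F)) [MulAction ↥(Root Q B ⊤) α]
    (v : ι → F) (y : α) : Prop :=
  ∀ a, B v a = 0 → sGL Q B v a ∈ Stab Q B y → a ∈ Submodule.span F {v}

section

variable (C : Space Q B)

include C

omit [Finite F] in
theorem reg_mv {g : GL ι F} (hg : g ∈ Root Q B ⊤) {v : ι → F} (hv : Q v = 0) {y : α}
    (hy : Reg Q B v y) : Reg Q B (g.val *ᵥ v) (mv Q B g y) := by
  intro a ha hmem
  have hI := root_le_iso C _ hg
  set a' := (g⁻¹ : GL ι F).val *ᵥ a
  have hva : B v a' = 0 := by rw [← C.B_act hI, act_inv]; exact ha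
  have h1 := conj_mem_Stab hg hmem
  have h2 := sGL_conj C (by rw [mem_iso.mp hI, hv] : Q (g.val *ᵥ v) = 0) ha (inv_mem hI)
  rw [inv_inv, inv_act] at h2
  rw [h2] at h1
  obtain ⟨c, hc⟩ := Submodule.mem_span_singleton.mp (hy a' hva h1)
  exact Submodule.mem_span_singleton.mpr ⟨c, by rw [← Matrix.mulVec_smul, hc, act_inv]⟩

/-- Regularity forbids a full centre. -/
theorem reg_not_centre (h7 : 7 ≤ Fintype.card ι) {v : ι → F} (hv : Q v = 0) (hv0 : v ≠ 0) {y : α}
    (hy : Reg Q B v y) (hc : Centre Q B (Stab Q B y) v) : False := by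
  obtain ⟨f, h⟩ := exists_hyp C C.ndeg_top trivial hv0 hv
  have hd := MinIndexOrth.finrank_X C h
  obtain ⟨w, hw, hw0⟩ := Submodule.exists_mem_ne_zero_of_ne_bot
    (p := X B v f) (fun hb => by rw [hb, finrank_bot] at hd; omega)
  obtain ⟨c, rfl⟩ := Submodule.mem_span_singleton.mp (hy w (X.left hw) (hc w (X.left hw)))
  have := X.right hw
  rw [map_smul, h.pair' C] at this
  simp at this
  exact hw0 (by rw [this, zero_smul])

/-- A point regular at `v` with a full centre at `f` gives the number of singular lines. -/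
theorem lines_of_regular_centre [Finite α] [MulAction.IsPretransitive ↥(Root Q B ⊤) α]
    (h7 : 7 ≤ Fintype.card ι) {v f : ι → F} (h : Hyp Q B ⊤ v f) {o : α} (hreg : Reg Q B v o)
    (hCf : Centre Q B (Stab Q B o) f) : singNum Q ≤ (Nat.card F - 1) * Nat.card α := by
  have h5 : 5 ≤ Fintype.card ι := by omega
  have hX := X_ndeg C h
  have hHI : Stab Q B o ≤ isometryGroup F Q := (Stab_le o).trans (root_le_iso C _)
  refine lines_le C h5 (o := o) (Hyp.ne_zero C h).2 h.singF fun g hg => ?_
  set u := g.val *ᵥ f with hu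
  have hQu : Q u = 0 := by rw [hu, mem_iso.mp (hHI hg), h.singF]
  have hCu : Centre Q B (Stab Q B o) u := centre_act C hHI h.singF hg hCf
  by_cases hfu : B f u ≠ 0
  · exfalso
    have htop : Root Q B ⊤ ≤ Stab Q B o := by
      rw [← omegaGL_eq C h5]
      exact omega_le_of_two C h5 hHI h.singF hQu hfu hCf hCu
    exact reg_not_centre C h7 h.singE (Hyp.ne_zero C h).1 hreg fun a ha =>
      htop (sGL_mem_root trivial trivial h.singE ha)
  push Not at hfu
  set x' := u - B v u • f with hx'
  have hx'X : x' ∈ X B v f :=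
    mem_X.mpr ⟨by simp [hx', h.pair], by simp [hx', hfu, C.self_zero h.singF]⟩
  by_cases hx0 : x' = 0
  · rw [sub_eq_zero.mp hx0]
    exact Submodule.smul_mem _ _ (Submodule.mem_span_singleton_self f)
  exfalso
  obtain ⟨w, hwX, hwx⟩ : ∃ w ∈ X B v f, B w x' = B v u := by
    obtain ⟨y, hy, hy0⟩ : ∃ y ∈ X B v f, B x' y ≠ 0 := by
      by_contra hne
      push Not at hne
      exact hx0 (hX x' hx'X hne)
    refine ⟨(B v u * (B x' y)⁻¹) • y, Submodule.smul_mem _ _ hy, ?_⟩
    rw [map_smul, LinearMap.smul_apply, smul_eq_mul, C.symm y, mul_assoc, inv_mul_cancel₀ hy0,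
      mul_one]
  have hu' : u = x' + B v u • f := by rw [hx']; abel
  have hgu : (sGL Q B f w).val *ᵥ u = x' := by
    rw [sGL_act C h.singF (X.right hwX), hfu]
    have hwu : B w u = B v u := by
      conv_lhs => rw [hu', map_add, map_smul, hwx, C.symm w f, X.right hwX]
      simp
    rw [hwu]
    simp [hx']
  have hCx := centre_act C hHI hQu (hCf w (X.right hwX)) hCu
  rw [hgu] at hCx
  have hQx' : Q x' = 0 := by rw [← hgu, mem_iso.mp (sGL_mem C h.singF (X.right hwX)), hQu]
  have hvx : B x' v = 0 := by rw [C.symm]; exact X.left hx'X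
  have hmem := hCx v hvx
  rw [sGL_swap C hQx' h.singE hvx] at hmem
  obtain ⟨c, hc⟩ := Submodule.mem_span_singleton.mp
    (hreg _ (by rw [map_neg, C.symm, hvx, neg_zero]) hmem)
  have := congrArg (B f) hc
  rw [map_smul, h.pair' C, map_neg, X.right hx'X] at this
  simp at this
  exact hx0 (by simpa [this, eq_comm] using hc)

open scoped Classical in
omit [Finite F] in
/-- Double counting an equivariant relation of singular vectors and points. -/
theorem equivariant_count [Finite F] [Fintype α] [MulAction.IsPretransitive ↥(Root Q B ⊤) α]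
    (h5 : 5 ≤ Fintype.card ι) (R : (ι → F) → α → Prop)
    (hR : ∀ g ∈ Root Q B ⊤, ∀ w y, Q w = 0 → R w y → R (g.val *ᵥ w) (mv Q B g y))
    {o : α} {u : ι → F} (hu0 : u ≠ 0) (hQu : Q u = 0) :
    singNum Q * (Finset.univ.filter fun y : α => R u y).card =
      Nat.card α * {w : ι → F | (w ≠ 0 ∧ Q w = 0) ∧ R w o}.ncard := by
  classical
  have := Fintype.ofFinite F
  set Zs := (Finset.univ : Finset (ι → F)).filter fun w => w ≠ 0 ∧ Q w = 0
  have hF : ∀ w ∈ Zs, ∀ w' ∈ Zs, (Finset.univ.filter fun y : α => R w y).card ≤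
      (Finset.univ.filter fun y : α => R w' y).card := by
    intro w hw w' hw'
    obtain ⟨hw0, hQw⟩ := (Finset.mem_filter.mp hw).2
    obtain ⟨hw0', hQw'⟩ := (Finset.mem_filter.mp hw').2
    obtain ⟨g, hg, hgw⟩ := trans_top C h5 hw0 hw0' (by rw [hQw, hQw'])
    refine Finset.card_le_card_of_injOn (mv Q B g) (fun y hy => ?_)
      fun y _ y' _ he => by rw [← mv_inv hg y, he, mv_inv hg]
    simp only [Finset.coe_filter, Finset.mem_univ, true_and, Set.mem_setOf_eq] at hy ⊢
    have := hR g hg w y hQw hy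
    rwa [hgw] at this
  have hG : ∀ y y' : α, (Zs.filter fun w => R w y).card ≤ (Zs.filter fun w => R w y').card := by
    intro y y'
    obtain ⟨⟨g, hg⟩, hgy⟩ := MulAction.exists_smul_eq ↥(Root Q B ⊤) y y'
    refine Finset.card_le_card_of_injOn (fun w => g.val *ᵥ w) (fun w hw => ?_)
      fun w _ w' _ he => act_injective g he
    obtain ⟨hwZ, hwy⟩ := Finset.mem_filter.mp hw
    obtain ⟨hw0, hQw⟩ := (Finset.mem_filter.mp hwZ).2
    refine Finset.mem_filter.mpr ⟨Finset.mem_filter.mpr ⟨Finset.mem_univ _, act_ne_zero hw0,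
      by rw [mem_iso.mp (root_le_iso C _ hg), hQw]⟩, ?_⟩
    have := hR g hg w y hQw hwy
    rw [mv_eq hg, hgy] at this
    exact this
  have huZ : u ∈ Zs := Finset.mem_filter.mpr ⟨Finset.mem_univ _, hu0, hQu⟩
  have h1 := Finset.sum_card_bipartiteAbove_eq_sum_card_bipartiteBelow R
    (s := Zs) (t := (Finset.univ : Finset α))
  simp only [Finset.bipartiteAbove, Finset.bipartiteBelow] at h1
  rw [Finset.sum_congr rfl fun w hw => le_antisymm (hF w hw u huZ) (hF u huZ w hw),
    Finset.sum_congr rfl fun y _ => le_antisymm (hG y o) (hG o y), Finset.sum_const,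
    Finset.sum_const, smul_eq_mul, smul_eq_mul, Finset.card_univ] at h1
  rw [singNum, Nat.card_eq_fintype_card, Fintype.card_subtype, Nat.card_eq_fintype_card, h1,
    ← Set.ncard_coe_finset]
  congr 2
  ext w
  simp [Zs, and_assoc]

end

section Aset

variable {p : ℕ} [Fact p.Prime] {τ : F →+ ZMod p} (S : Base Q B τ) {v f : ι → F}
  (h : Hyp Q B ⊤ v f)

include S h

theorem reg_of_full {x : α} (hfull : ∀ y ∈ X B v f, y ∈ aset τ Q B v f x) : Reg Q B v x := by
  intro a ha hmem
  have hX' : a - B f a • v ∈ X B v f := mem_X.mpr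
    ⟨by simp [ha, S.space.self_zero h.singE], by simp [h.pair' S.space]⟩
  rw [← sGL_add_self S.space h.singE ha (-(B f a)),
    show a + -(B f a) • v = a - B f a • v by rw [neg_smul, sub_eq_add_neg]] at hmem
  have := full_sset S h hfull hX' hmem
  exact Submodule.mem_span_singleton.mpr ⟨B f a, (sub_eq_zero.mp this).symm⟩

omit [Finite F] in
theorem full_of_reg {x : α} (hreg : Reg Q B v x) : ∀ y ∈ X B v f, y ∈ aset τ Q B v f x := by
  refine fun y hy => ⟨hy, fun w hw => ?_⟩
  obtain ⟨c, rfl⟩ := Submodule.mem_span_singleton.mp (hreg w (X.left hw.1) hw.2)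
  rw [map_smul, S.space.symm y v, X.left hy, smul_zero, map_zero]

end Aset

end

end Cfsg.Lib.Linear.MinIndexOrth
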