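import Cfsg.Agent.Lib.Linear.MinIndexOrth.Small.Minus
import Cfsg.Agent.Lib.Linear.MinIndexOrth.Main

/-!
# The minimal index for minus type over two or three elements
-/

set_option autoImplicit false

namespace Cfsg.Lib.Linear.MinIndexOrth

open Module Cfsg.Lib.Linear.Orth

noncomputable section

variable {ι : Type} [Fintype ι] [DecidableEq ι] {F : Type*} [Field F] [Finite F]
  {Q : (ι → F) → F} {B : LinearMap.BilinForm F (ι → F)}

/-- Proper subgroups of `PΩ⁻` over two or three elements. -/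
theorem index_lower_minus (C : Space Q B) (hq : Nat.card F = 2 ∨ Nat.card F = 3) {m : ℕ}
    (hm : 4 ≤ m) (hn : Fintype.card ι = 2 * m)
    (hz : (singNum Q : ℤ) = ((Nat.card F : ℤ) ^ m + 1) * ((Nat.card F : ℤ) ^ (m - 1) - 1))
    (H : Subgroup (Cfsg.POmega F Q)) (hH : H ≠ ⊤) :
    singNum Q ≤ H.index * (Nat.card F - 1) :=
  index_transfer C (by omega) (fun M _ =>
    singNum_le_minus (α := ↥(Root Q B ⊤) ⧸ M) C hq hm hn hz) H hH

end

end Cfsg.Lib.Linear.MinIndexOrth
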