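import Cfsg.Agent.Lib.Linear.MinIndexOrth.Small.Main
import Cfsg.Agent.Lib.Linear.MinIndexOrth.Main

/-!
# Numbers of vectors of each norm over two or three elements; stabilisers of non-singular lines
-/

set_option autoImplicit false

namespace Cfsg.Lib.Linear.MinIndexOrth

open Module Cfsg.Lib.Linear.Orth
open scoped Matrix

noncomputable section

variable {ι : Type} [Fintype ι] [DecidableEq ι] {F : Type*} [Field F] [Finite F]
  {Q : (ι → F) → F} {B : LinearMap.BilinForm F (ι → F)}

omit [DecidableEq ι] in
/-- The levels fill the subspace. -/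
theorem level_sum [Fintype F] (U : Submodule F (ι → F)) :
    ∑ c : F, level Q U c = Nat.card F ^ finrank F U := by
  classical
  rw [← card_submodule U]
  simp only [level]
  rw [← Nat.card_sigma]
  exact Nat.card_congr
    { toFun := fun p => ⟨p.2.1, p.2.2.1⟩
      invFun := fun x => ⟨Q x.1, x.1, x.2, rfl⟩
      left_inv := by rintro ⟨c, x, hx, rfl⟩; rfl
      right_inv := fun x => rfl }

omit [Fintype ι] [DecidableEq ι] in
theorem two_cases (hq : Nat.card F = 2) (y : F) : y = 0 ∨ y = 1 := by
  classical
  have := Fintype.ofFinite F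
  by_contra hy
  push Not at hy
  have : ({0, 1, y} : Finset F).card ≤ 2 := by
    rw [← hq, Nat.card_eq_fintype_card, ← Finset.card_univ]
    exact Finset.card_le_card (Finset.subset_univ _)
  simp [Ne.symm hy.1, Ne.symm hy.2] at this

omit [Fintype ι] [DecidableEq ι] in
theorem three_cases (hq : Nat.card F = 3) (y : F) : y = 0 ∨ y = 1 ∨ y = -1 := by
  classical
  have := Fintype.ofFinite F
  have h2 := char_ne_two_of_three hq
  by_contra hy
  push Not at hy
  have h21 : (1 : F) ≠ -1 := fun h11 => h2 (by linear_combination h11)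
  have : ({0, 1, -1, y} : Finset F).card ≤ 3 := by
    rw [← hq, Nat.card_eq_fintype_card, ← Finset.card_univ]
    exact Finset.card_le_card (Finset.subset_univ _)
  simp [Ne.symm hy.1, Ne.symm hy.2.1, Ne.symm hy.2.2, h21] at this

theorem sum_two (hq : Nat.card F = 2) (U : Submodule F (ι → F)) :
    level Q U 0 + level Q U 1 = 2 ^ finrank F U := by
  classical
  have := Fintype.ofFinite F
  have h := level_sum (Q := Q) U
  have hu : (Finset.univ : Finset F) = {0, 1} := by
    ext y; simpa using two_cases hq y
  rw [hu, Finset.sum_pair zero_ne_one, hq] at h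
  exact h

theorem sum_three (hq : Nat.card F = 3) (U : Submodule F (ι → F)) :
    level Q U 0 + level Q U 1 + level Q U (-1) = 3 ^ finrank F U := by
  classical
  have := Fintype.ofFinite F
  have h := level_sum (Q := Q) U
  have h21 : (1 : F) ≠ -1 := fun h11 => char_ne_two_of_three hq (by linear_combination h11)
  have hu : (Finset.univ : Finset F) = {0, 1, -1} := by
    ext y; simpa using three_cases hq y
  rw [hu, Finset.sum_insert (by simp [eq_comm]), Finset.sum_pair h21, hq] at h
  omega

/-- The levels in odd dimension over three elements. -/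
theorem level_odd (C : Space Q B) (hq : Nat.card F = 3) {c : F} (hc : c ≠ 0) :
    ∀ (k : ℕ) {U : Submodule F (ι → F)}, NDeg B U → finrank F U = 2 * k + 1 →
      level Q U c + 3 ^ k = 9 ^ k ∨ level Q U c = 9 ^ k + 3 ^ k := by
  intro k
  induction k with
  | zero =>
    intro U hU hd
    classical
    have := Fintype.ofFinite F
    obtain ⟨a, ha, ha0⟩ := Submodule.exists_mem_ne_zero_of_ne_bot
      (p := U) (fun hb => by rw [hb, finrank_bot] at hd; omega)
    have hspan : ∀ y ∈ U, y ∈ Submodule.span F {a} := by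
      have hle : Submodule.span F {a} ≤ U := (Submodule.span_singleton_le_iff_mem _ _).mpr ha
      have := Submodule.eq_of_le_of_finrank_eq hle
        (by rw [finrank_span_singleton ha0, hd])
      exact fun y hy => this.symm ▸ hy
    have hlev : ∀ y, y ∈ U ∧ Q y = c ↔ (y = a ∨ y = -a) ∧ Q a = c := fun y => by
      constructor
      · rintro ⟨hy, hQy⟩
        obtain ⟨t, rfl⟩ := Submodule.mem_span_singleton.mp (hspan y hy)
        rw [C.smul] at hQy
        rcases three_cases hq t with rfl | rfl | rfl
        · simp at hQy; exact absurd hQy.symm hc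
        · exact ⟨Or.inl (one_smul F a), by simpa using hQy⟩
        · exact ⟨Or.inr (by rw [neg_smul, one_smul]), by simpa using hQy⟩
      · rintro ⟨rfl | rfl, hQ⟩
        exacts [⟨ha, hQ⟩, ⟨U.neg_mem ha, by rw [C.neg, hQ]⟩]
    have hl : level Q U c = ((Finset.univ : Finset (ι → F)).filter
        fun y => (y = a ∨ y = -a) ∧ Q a = c).card := by
      rw [level, Nat.card_congr (Equiv.subtypeEquivRight hlev), Nat.card_eq_fintype_card,
        Fintype.card_subtype]
    by_cases hQa : Q a = c
    · refine Or.inr ?_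
      rw [hl]
      have : a ≠ -a := fun he => by
        have h1 : (2 : F) • a = 0 := by
          rw [two_smul]; nth_rewrite 2 [he]; rw [add_neg_cancel]
        exact ha0 ((smul_eq_zero.mp h1).resolve_left (char_ne_two_of_three hq))
      rw [show ((Finset.univ : Finset (ι → F)).filter fun y => (y = a ∨ y = -a) ∧ Q a = c) =
        {a, -a} by ext y; simp [hQa], Finset.card_pair this]
      norm_num
    · refine Or.inl ?_
      rw [hl, Finset.filter_false_of_mem fun y _ hy => hQa hy.2]
      norm_num
  | succ k ih =>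
    intro U hU hd
    obtain ⟨e, f, H⟩ := exists_hyp' C hU (by omega)
    have hd' := finrank_step C H
    have h1 := level_step C H c
    rw [hq, show finrank F ↥(perp2 B U e f) = 2 * k + 1 by omega] at h1
    have e9 : ((3 : ℤ)) ^ (2 * k + 1) = 3 * 9 ^ k := by
      rw [pow_succ, pow_mul]; norm_num; ring
    rcases ih (H.ndeg C hU) (by omega) with h2 | h2
    · refine Or.inl ?_
      zify at h2 ⊢
      rw [h1]
      push_cast
      rw [e9, pow_succ, pow_succ]
      linear_combination 3 * h2
    · refine Or.inr ?_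
      zify at h2 ⊢
      rw [h1]
      push_cast
      rw [e9, pow_succ, pow_succ]
      linear_combination 3 * h2

/-- The stabilisers of non-singular lines. -/
theorem exists_index_norm (C : Space Q B) (h7 : 7 ≤ Fintype.card ι) {c : F} (hc : c ≠ 0)
    (hpos : 0 < level Q (⊤ : Submodule F (ι → F)) c) :
    ∃ H : Subgroup (Cfsg.POmega F Q), H.index * Nat.card {t : F // t ^ 2 = 1} =
      level Q (⊤ : Submodule F (ι → F)) c := by
  classical
  obtain ⟨⟨e, -, hQe⟩⟩ := (Nat.card_pos_iff.mp hpos).1
  have he0 : e ≠ 0 := fun h0 => hc (by rw [← hQe, h0, C.zero])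
  set L : Subgroup ↥(Cfsg.Omega F Q) :=
    (Cfsg.Geo.subspaceStabilizer (Submodule.span F {e})).comap (omegaHom Q)
  have hmemL : ∀ g, g ∈ L ↔ (omegaHom Q g).val *ᵥ e ∈ Submodule.span F {e} := fun g => by
    refine ⟨fun h => stab_mem h (Submodule.mem_span_singleton_self e), fun h => ?_⟩
    refine mem_stab_of_mapsTo fun w hw => ?_
    obtain ⟨c, rfl⟩ := Submodule.mem_span_singleton.mp hw
    rw [Matrix.mulVec_smul]
    exact Submodule.smul_mem _ _ h
  have hiso : ∀ g, omegaHom Q g ∈ isometryGroup F Q :=
    fun g => (g : ↥(isometryGroup F Q)).2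
  have hQg : ∀ g, Q ((omegaHom Q g).val *ᵥ e) = c := fun g => by rw [mem_iso.mp (hiso g), hQe]
  have hmul : Nat.card ({t : F // t ^ 2 = 1} × (↥(Cfsg.Omega F Q) ⧸ L)) =
      L.index * Nat.card {t : F // t ^ 2 = 1} := by
    rw [Nat.card_prod, mul_comm]; rfl
  let Φ : {t : F // t ^ 2 = 1} × (↥(Cfsg.Omega F Q) ⧸ L) →
      {w : ι → F // w ∈ (⊤ : Submodule F (ι → F)) ∧ Q w = c} := fun x =>
    ⟨x.1.1 • (omegaHom Q x.2.out).val *ᵥ e, trivial,
      by rw [C.smul, x.1.2, hQg, one_mul]⟩
  have hne : ∀ t : {t : F // t ^ 2 = 1}, t.1 ≠ 0 := fun t h0 => by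
    have := t.2; rw [h0] at this; simp at this
  have hbij : Function.Bijective Φ := by
    constructor
    · rintro ⟨t, a⟩ ⟨t', b⟩ he
      have he' : t.1 • (omegaHom Q a.out).val *ᵥ e = t'.1 • (omegaHom Q b.out).val *ᵥ e :=
        congrArg Subtype.val he
      have hab : a = b := by
        rw [← QuotientGroup.out_eq' a, ← QuotientGroup.out_eq' b, QuotientGroup.eq, hmemL,
          map_mul, map_inv, mul_act]
        have h1 : (omegaHom Q b.out).val *ᵥ e = (t'.1⁻¹ * t.1) • (omegaHom Q a.out).val *ᵥ e := by
          rw [← smul_smul, he', smul_smul, inv_mul_cancel₀ (hne t'), one_smul]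
        rw [h1, Matrix.mulVec_smul, inv_act]
        exact Submodule.smul_mem _ _ (Submodule.mem_span_singleton_self e)
      subst hab
      have : t = t' := Subtype.ext (smul_left_injective F (act_ne_zero he0) he')
      rw [this]
    · rintro ⟨w, -, hQw⟩
      have hw0 : w ≠ 0 := fun h0 => hc (by rw [← hQw, h0, C.zero])
      obtain ⟨g, hg, hge⟩ := trans_top C (by omega) he0 hw0 (by rw [hQe, hQw])
      rw [← omegaHom_range C (by omega)] at hg
      obtain ⟨y, rfl⟩ := hg
      obtain ⟨r, hr⟩ := Submodule.mem_span_singleton.mp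
        ((hmemL _).mp (QuotientGroup.eq.mp (QuotientGroup.out_eq' (QuotientGroup.mk (s := L) y))))
      rw [map_mul, map_inv, mul_act, hge] at hr
      set z := (QuotientGroup.mk (s := L) y).out
      have hw : w = r • (omegaHom Q z).val *ᵥ e := by rw [← Matrix.mulVec_smul, hr, act_inv]
      have hr2 : r ^ 2 = 1 := by
        have h1 := hQw
        rw [hw, C.smul, hQg] at h1
        exact mul_right_cancel₀ hc (by rw [h1, one_mul])
      exact ⟨(⟨r, hr2⟩, QuotientGroup.mk y), Subtype.ext hw.symm⟩
  have hker : Subgroup.center ↥(Cfsg.Omega F Q) ≤ L := fun z hz => by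
    rw [hmemL]
    rcases omega_center_pm C h7 hz with h | h
    · show ((z : ↥(isometryGroup F Q)) : GL ι F).val *ᵥ e ∈ _
      rw [h, Matrix.one_mulVec]; exact Submodule.mem_span_singleton_self e
    · show ((z : ↥(isometryGroup F Q)) : GL ι F).val *ᵥ e ∈ _
      rw [h, Matrix.neg_mulVec, Matrix.one_mulVec]
      exact Submodule.neg_mem _ (Submodule.mem_span_singleton_self e)
  refine ⟨L.map (QuotientGroup.mk' _), ?_⟩
  rw [Subgroup.index_map_eq L (QuotientGroup.mk'_surjective _)
    (by rw [QuotientGroup.ker_mk']; exact hker), ← hmul]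
  exact Nat.card_eq_of_bijective Φ hbij

theorem level_top_zero (C : Space Q B) :
    level Q (⊤ : Submodule F (ι → F)) 0 = singNum Q + 1 := by
  rw [singNum_add_one C, level]
  exact Nat.card_congr (Equiv.subtypeEquivRight fun x => by simp)

end

end Cfsg.Lib.Linear.MinIndexOrth
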