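import Cfsg.Agent.Lib.Linear.MinIndexOrth.Small.Endgame

/-!
# The elements with a given centre cannot be regular on all points

A root element of the parameter space permutes the regular orbit as an affine map; the translation
part is fixed modulo the image of the linear part by everything commuting with it, so it lies in
that image and the root element has a fixed point.
-/

set_option autoImplicit false

namespace Cfsg.Lib.Linear.MinIndexOrth

open Module Cfsg.Lib.Linear.Orth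
open scoped Matrix

noncomputable section

variable {ι : Type} [Fintype ι] [DecidableEq ι] {F : Type*} [Field F] [Finite F]
  {Q : (ι → F) → F} {B : LinearMap.BilinForm F (ι → F)} {p : ℕ} [Fact p.Prime]
  {τ : F →+ ZMod p} {α : Type*} [MulAction ↥(Root Q B ⊤) α]

/-- Translations by vectors of the parameter space act freely on a regular orbit. -/
theorem regular_free (C : Space Q B) {v f : ι → F} (h : Hyp Q B ⊤ v f) {x : α}
    (hreg : Reg Q B v x) {w w' : ι → F} (hw : w ∈ X B v f) (hw' : w' ∈ X B v f)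
    (he : mv Q B (sGL Q B v w) x = mv Q B (sGL Q B v w') x) : w = w' := by
  have hK : ∀ w ∈ X B v f, sGL Q B v w ∈ Root Q B ⊤ := fun w hw => sGL_mem_K C h.singE hw
  have h1 : sGL Q B v (-w' + w) ∈ Stab Q B x := by
    rw [mem_Stab (hK _ (Submodule.add_mem _ (Submodule.neg_mem _ hw') hw)),
      ← sGL_mul C h.singE (by rw [map_neg, X.left hw', neg_zero]) (X.left hw),
      mv_mul (hK _ (Submodule.neg_mem _ hw')) (hK _ hw), he, ← sGL_inv C h.singE (X.left hw'),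
      mv_inv (hK _ hw')]
  have hX2 : -w' + w ∈ X B v f := Submodule.add_mem _ (Submodule.neg_mem _ hw') hw
  obtain ⟨c, hc⟩ := Submodule.mem_span_singleton.mp (hreg _ (X.left hX2) h1)
  have h2 := congrArg (B f) hc
  rw [map_smul, h.pair' C, X.right hX2] at h2
  simp at h2
  rw [h2, zero_smul] at hc
  exact (neg_add_eq_zero.mp hc.symm).symm

theorem conj_sGL_fix (C : Space Q B) {g : GL ι F} (hg : g ∈ Root Q B ⊤) {v w : ι → F}
    (hv : Q v = 0) (hgv : g.val *ᵥ v = v) (hvw : B v w = 0) :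
    g * sGL Q B v w = sGL Q B v (g.val *ᵥ w) * g := by
  have h1 := sGL_conj C hv hvw (root_le_iso C _ hg)
  rw [hgv] at h1
  rw [← h1, inv_mul_cancel_right]

/-- The translation parts of a product. -/
theorem translate_mul (C : Space Q B) {v : ι → F} (hv : Q v = 0) {x : α} {g g' : GL ι F}
    (hg : g ∈ Root Q B ⊤) (hg' : g' ∈ Root Q B ⊤) (hgv : g.val *ᵥ v = v) {c c' : ι → F}
    (hc : B v c = 0) (hc' : B v c' = 0) (hgx : mv Q B g x = mv Q B (sGL Q B v c) x)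
    (hgx' : mv Q B g' x = mv Q B (sGL Q B v c') x) :
    mv Q B (g * g') x = mv Q B (sGL Q B v (g.val *ᵥ c' + c)) x := by
  have hK : ∀ w, B v w = 0 → sGL Q B v w ∈ Root Q B ⊤ :=
    fun w hw => sGL_mem_root trivial trivial hv hw
  have hgc : B v (g.val *ᵥ c') = 0 := by
    have := C.B_act (root_le_iso C _ hg) v c'
    rw [hgv] at this
    rw [this, hc']
  rw [mv_mul hg hg', hgx', ← mv_mul hg (hK c' hc'), conj_sGL_fix C hg hv hgv hc',
    mv_mul (hK _ hgc) hg, hgx, ← mv_mul (hK _ hgc) (hK c hc), sGL_mul C hv hgc hc]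

/-- The translation part of a root element is not in its image. -/
theorem regular_fix (C : Space Q B) {v f : ι → F} (h : Hyp Q B ⊤ v f) {x : α}
    (hreg : ∀ u, Q u = 0 → u ≠ 0 → ∀ y : α, Reg Q B u y) {u w : ι → F} (hu : u ∈ X B v f)
    (hw : w ∈ X B v f) (hQu : Q u = 0) (hu0 : u ≠ 0) (huw : B u w = 0)
    (hwu : w ∉ Submodule.span F {u}) {z : ι → F} (hz : z ∈ X B v f) {c : ι → F}
    (hc : B v c = 0) (hgx : mv Q B (sGL Q B u w) x = mv Q B (sGL Q B v c) x)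
    (hgz : (sGL Q B u w).val *ᵥ z = z + c) : False := by
  have hgX := sGL_mem_root (Q := Q) (B := B) hu hw hQu huw
  have hgK : sGL Q B u w ∈ Root Q B ⊤ := root_mono le_top hgX
  obtain ⟨hgv, -⟩ := root_fix C h hgX
  have hK : ∀ w, B v w = 0 → sGL Q B v w ∈ Root Q B ⊤ :=
    fun w hw => sGL_mem_root trivial trivial h.singE hw
  have hnz : B v (-z) = 0 := by rw [map_neg, X.left hz, neg_zero]
  have hzc : B v (-(z + c)) = 0 := by rw [map_neg, map_add, X.left hz, hc, add_zero, neg_zero]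
  set y := mv Q B (sGL Q B v (-z)) x
  have hgy : mv Q B (sGL Q B u w) y = y := by
    rw [← mv_mul hgK (hK _ hnz), conj_sGL_fix C hgK h.singE hgv hnz, Matrix.mulVec_neg, hgz,
      mv_mul (hK _ hzc) hgK, hgx, ← mv_mul (hK _ hzc) (hK c hc), sGL_mul C h.singE hzc hc,
      show -(z + c) + c = -z by abel]
  exact hwu (hreg u hQu hu0 y w huw ((mem_Stab hgK).mpr hgy))

/-- The translation part of a root element on a regular orbit. -/
theorem regular_root (S : Base Q B τ) {v f e₁ f₁ e₂ f₂ : ι → F} (h : Hyp Q B ⊤ v f)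
    (H₁ : Hyp Q B (X B v f) e₁ f₁) (H₂ : Hyp Q B (perp2 B (X B v f) e₁ f₁) e₂ f₂)
    (hreg : ∀ u, Q u = 0 → u ≠ 0 → ∀ y : α, Reg Q B u y)
    (htrans : ∀ x y : α, ∃ w ∈ X B v f, mv Q B (sGL Q B v w) x = y) (x : α) :
    ∃ c ∈ X B v f, mv Q B (sGL Q B v c) x = mv Q B (sGL Q B e₁ e₂) x ∧ B e₁ c = 0 ∧ B e₂ c = 0 ∧
      c - B f₁ c • e₁ - B f₂ c • e₂ ∈ perp2 B (perp2 B (X B v f) e₁ f₁) e₂ f₂ ∧
      c - B f₁ c • e₁ - B f₂ c • e₂ ≠ 0 ∧
      finrank F ↥(perp2 B (perp2 B (X B v f) e₁ f₁) e₂ f₂) ≤ 2 ∧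
      (finrank F ↥(perp2 B (perp2 B (X B v f) e₁ f₁) e₂ f₂) = 2 →
        ∃ y ∈ perp2 B (perp2 B (X B v f) e₁ f₁) e₂ f₂, y ≠ 0 ∧ Q y = 0) := by
  have C := S.space
  have hI : ∀ {g : GL ι F}, g ∈ Root Q B ⊤ → g ∈ isometryGroup F Q := fun hg => root_le_iso C _ hg
  have hX := X_ndeg C h
  have hdX := MinIndexOrth.finrank_X C h
  have h7 := S.n7
  have h5 : 5 ≤ Fintype.card ι := by omega
  have hd₁ := finrank_step C H₁
  have hn₁ := H₁.ndeg C hX
  have hd₂ := finrank_step C H₂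
  have hn₂ := H₂.ndeg C hn₁
  obtain ⟨he₂X, h12, hf₁e₂⟩ := mem_perp2.mp H₂.memE
  obtain ⟨hf₂X, he₁f₂, hf₁f₂⟩ := mem_perp2.mp H₂.memF
  set U := perp2 B (perp2 B (X B v f) e₁ f₁) e₂ f₂
  have hmemU : ∀ {y}, y ∈ U → y ∈ X B v f ∧ B e₁ y = 0 ∧ B f₁ y = 0 ∧ B e₂ y = 0 ∧ B f₂ y = 0 :=
    fun {y} hy => by
    obtain ⟨hy1, h3, h4⟩ := mem_perp2.mp hy
    obtain ⟨hy0, h1, h2⟩ := mem_perp2.mp hy1
    exact ⟨hy0, h1, h2, h3, h4⟩
  have hK : ∀ w ∈ X B v f, sGL Q B v w ∈ Root Q B ⊤ := fun w hw => sGL_mem_K C h.singE hw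
  have hfree : ∀ x : α, ∀ w ∈ X B v f, ∀ w' ∈ X B v f,
      mv Q B (sGL Q B v w) x = mv Q B (sGL Q B v w') x → w = w' := fun x w hw w' hw' he =>
    regular_free C h (hreg v h.singE (Hyp.ne_zero C h).1 x) hw hw' he
  -- the root element and its translation part
  have he₁e₂ : B e₁ e₂ = 0 := h12
  have he₂e₁ : B e₂ e₁ = 0 := by rw [C.symm]; exact h12
  set r := sGL Q B e₁ e₂
  have hrX : r ∈ Root Q B (X B v f) := sGL_mem_root H₁.memE he₂X H₁.singE he₁e₂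
  have hrK : r ∈ Root Q B ⊤ := root_mono le_top hrX
  obtain ⟨hrv, hrf⟩ := root_fix C h hrX
  have hract : ∀ y, r.val *ᵥ y = y + B e₁ y • e₂ - B e₂ y • e₁ := fun y => by
    rw [sGL_act C H₁.singE he₁e₂, H₂.singE]; simp
  obtain ⟨c, hc, hcx⟩ := htrans x (mv Q B r x)
  have hconj : ∀ g ∈ Root Q B ⊤, g.val *ᵥ v = v → ∀ w ∈ X B v f,
      g * sGL Q B v w = sGL Q B v (g.val *ᵥ w) * g := fun g hg hgv w hw =>
    conj_sGL_fix C hg h.singE hgv (X.left hw)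
  have hgX : ∀ g ∈ Root Q B ⊤, g.val *ᵥ v = v → g.val *ᵥ f = f → ∀ w ∈ X B v f,
      g.val *ᵥ w ∈ X B v f := fun g hg hgv hgf w hw =>
    act_mem_X C h (hI hg) one_ne_zero (by rw [hgv, one_smul]) (by rw [hgf, inv_one, one_smul]) hw
  have hcomm : ∀ g ∈ Root Q B ⊤, g.val *ᵥ v = v → g.val *ᵥ f = f → g.val *ᵥ e₁ = e₁ →
      g.val *ᵥ e₂ = e₂ → ∃ a b : F, g.val *ᵥ c - c = a • e₁ + b • e₂ := by
    intro g hg hgv hgf hg1 hg2
    have hgr : g * r = r * g := by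
      have h1 := sGL_conj C H₁.singE he₁e₂ (hI hg)
      rw [hg1, hg2] at h1
      calc g * r = g * r * g⁻¹ * g := by rw [inv_mul_cancel_right]
        _ = r * g := by rw [h1]
    obtain ⟨d, hd, hdx⟩ := htrans x (mv Q B g x)
    have h1 : mv Q B g (mv Q B r x) = mv Q B r (mv Q B g x) := by
      rw [← mv_mul hg hrK, hgr, mv_mul hrK hg]
    rw [← hcx, ← mv_mul hg (hK c hc), hconj g hg hgv c hc,
      mv_mul (hK _ (hgX g hg hgv hgf c hc)) hg, ← hdx,
      ← mv_mul (hK _ (hgX g hg hgv hgf c hc)) (hK d hd),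
      sGL_mul C h.singE (X.left (hgX g hg hgv hgf c hc)) (X.left hd),
      ← mv_mul hrK (hK d hd), hconj r hrK hrv d hd, mv_mul (hK _ (hgX r hrK hrv hrf d hd)) hrK,
      ← hcx, ← mv_mul (hK _ (hgX r hrK hrv hrf d hd)) (hK c hc),
      sGL_mul C h.singE (X.left (hgX r hrK hrv hrf d hd)) (X.left hc)] at h1
    have h2 := hfree x _ (Submodule.add_mem _ (hgX g hg hgv hgf c hc) hd) _
      (Submodule.add_mem _ (hgX r hrK hrv hrf d hd) hc) h1
    refine ⟨-B e₂ d, B e₁ d, ?_⟩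
    rw [hract] at h2
    calc g.val *ᵥ c - c = (g.val *ᵥ c + d) - d - c := by abel
      _ = _ := by rw [h2]; module
  have hne : ∀ a b : F, a • e₁ + b • e₂ = 0 → a = 0 ∧ b = 0 := fun a b hab => by
    have h1 := congrArg (B f₁) hab
    have h2 := congrArg (B f₂) hab
    rw [map_add, map_smul, map_smul, H₁.pair' C, hf₁e₂, map_zero] at h1
    rw [map_add, map_smul, map_smul, H₂.pair' C, C.symm f₂ e₁, he₁f₂, map_zero] at h2
    simp at h1 h2
    exact ⟨h1, h2⟩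
  -- `c` is perpendicular to both vectors
  have hperp : ∀ u u' z : ι → F, (u = e₁ ∧ u' = e₂) ∨ (u = e₂ ∧ u' = e₁) → z ∈ U → z ≠ 0 →
      B u c = 0 := by
    intro u u' z hu hz hz0
    obtain ⟨hzX, hz1, -, hz2, -⟩ := hmemU hz
    obtain ⟨huX, huu, hu', huz⟩ : u ∈ X B v f ∧ Q u = 0 ∧ B u u' = 0 ∧ B u z = 0 := by
      rcases hu with ⟨rfl, rfl⟩ | ⟨rfl, rfl⟩
      · exact ⟨H₁.memE, H₁.singE, he₁e₂, hz1⟩
      · exact ⟨he₂X, H₂.singE, he₂e₁, hz2⟩
    have hgX' := sGL_mem_root (Q := Q) (B := B) huX hzX huu huz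
    obtain ⟨hgv, hgf⟩ := root_fix C h hgX'
    have hfixe : ∀ e, B u e = 0 → B z e = 0 → (sGL Q B u z).val *ᵥ e = e := fun e h1 h2 => by
      rw [sGL_act C huu huz, h1, h2]; simp
    obtain ⟨a, b, hab⟩ := hcomm _ (root_mono le_top hgX') hgv hgf
      (hfixe e₁ (by rcases hu with ⟨rfl, rfl⟩ | ⟨rfl, rfl⟩
                    · exact C.self_zero H₁.singE
                    · exact he₂e₁) (by rw [C.symm]; exact hz1))
      (hfixe e₂ (by rcases hu with ⟨rfl, rfl⟩ | ⟨rfl, rfl⟩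
                    · exact he₁e₂
                    · exact C.self_zero H₂.singE) (by rw [C.symm]; exact hz2))
    obtain ⟨y, hy, hzy⟩ : ∃ y ∈ U, B z y ≠ 0 := by
      by_contra hne'
      push Not at hne'
      exact hz0 (hn₂ z hz hne')
    obtain ⟨-, hy1, -, hy2, -⟩ := hmemU hy
    have h1 := congrArg (fun w => B w y) hab
    rw [sGL_act C huu huz] at h1
    have huy : B u y = 0 := by
      rcases hu with ⟨rfl, rfl⟩ | ⟨rfl, rfl⟩
      · exact hy1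
      · exact hy2
    simp only [map_sub, map_add, map_smul, LinearMap.sub_apply, LinearMap.add_apply,
      LinearMap.smul_apply, smul_eq_mul, huy, hy1, hy2] at h1
    simp at h1
    exact h1.resolve_right hzy
  have hU0 : U ≠ ⊥ := fun hb => by rw [hb, finrank_bot] at hd₂; omega
  obtain ⟨z₀, hz₀, hz₀0⟩ := Submodule.exists_mem_ne_zero_of_ne_bot hU0
  have hc1 := hperp e₁ e₂ z₀ (Or.inl ⟨rfl, rfl⟩) hz₀ hz₀0
  have hc2 := hperp e₂ e₁ z₀ (Or.inr ⟨rfl, rfl⟩) hz₀ hz₀0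
  -- the component in the remaining space vanishes
  set c₀ := c - B f₁ c • e₁ - B f₂ c • e₂ with hc₀
  have hc₀U : c₀ ∈ U := by
    refine mem_perp2.mpr ⟨mem_perp2.mpr ⟨Submodule.sub_mem _ (Submodule.sub_mem _ hc
      (Submodule.smul_mem _ _ H₁.memE)) (Submodule.smul_mem _ _ he₂X), ?_, ?_⟩, ?_, ?_⟩
    · simp [hc₀, hc1, C.self_zero H₁.singE, he₁e₂]
    · simp [hc₀, H₁.pair' C, hf₁e₂]
    · simp [hc₀, hc2, C.self_zero H₂.singE, he₂e₁]
    · simp [hc₀, H₂.pair' C, C.symm f₂ e₁, he₁f₂]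
  have hfixU : ∀ g : GL ι F, g ∈ Root Q B ⊤ → g.val *ᵥ v = v → g.val *ᵥ f = f →
      g.val *ᵥ e₁ = e₁ → g.val *ᵥ e₂ = e₂ → g.val *ᵥ c₀ ∈ U → g.val *ᵥ c₀ = c₀ := by
    intro g hg hgv hgf hg1 hg2 hgc
    obtain ⟨a, b, hab⟩ := hcomm g hg hgv hgf hg1 hg2
    have hd : g.val *ᵥ c₀ - c₀ = a • e₁ + b • e₂ := by
      rw [← hab, hc₀, Matrix.mulVec_sub, Matrix.mulVec_sub, Matrix.mulVec_smul, Matrix.mulVec_smul,
        hg1, hg2]
      abel
    obtain ⟨-, -, h1, -, h2⟩ := hmemU (U.sub_mem hgc hc₀U)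
    rw [hd, map_add, map_smul, map_smul, H₁.pair' C, hf₁e₂] at h1
    rw [hd, map_add, map_smul, map_smul, H₂.pair' C, C.symm f₂ e₁, he₁f₂] at h2
    simp at h1 h2
    rw [← sub_eq_zero, hd, h1, h2]
    simp
  have hne0 : c₀ ≠ 0 := fun hc₀0 => by
    have hne12 : e₂ ∉ Submodule.span F {e₁} := fun hm => by
      obtain ⟨t, ht⟩ := Submodule.mem_span_singleton.mp hm
      have h1 := congrArg (B f₂) ht
      rw [map_smul, C.symm f₂ e₁, he₁f₂, smul_zero, H₂.pair' C] at h1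
      exact zero_ne_one h1
    refine regular_fix C h hreg H₁.memE he₂X H₁.singE (Hyp.ne_zero C H₁).1 he₁e₂ hne12
      (z := B f₂ c • f₁ - B f₁ c • f₂)
      (Submodule.sub_mem _ (Submodule.smul_mem _ _ H₁.memF) (Submodule.smul_mem _ _ hf₂X))
      (X.left hc) hcx.symm ?_
    set z := B f₂ c • f₁ - B f₁ c • f₂ with hz
    show r.val *ᵥ z = z + c
    rw [hract]
    have h1 : B e₁ z = B f₂ c := by simp [hz, H₁.pair, he₁f₂]
    have h2 : B e₂ z = -B f₁ c := by simp [hz, C.symm e₂ f₁, hf₁e₂, H₂.pair]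
    rw [hc₀, sub_sub, sub_eq_zero] at hc₀0
    conv_rhs => rw [hc₀0]
    rw [h1, h2]
    module
  refine ⟨c, hc, hcx, hc1, hc2, hc₀U, hne0, ?_⟩
  by_cases h3 : 3 ≤ finrank F U
  · exfalso
    refine hne0 (hn₂ c₀ hc₀U fun y hy => ?_)
    rw [C.symm]
    refine (Submodule.span_le (p := LinearMap.ker (B.flip c₀))).mpr (fun u hu => ?_)
      (span_sing C hn₂ h3 hy)
    obtain ⟨huU, hQu⟩ := hu
    refine LinearMap.mem_ker.mpr ?_
    show B u c₀ = 0
    by_cases hu0 : u = 0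
    · rw [hu0, map_zero, LinearMap.zero_apply]
    by_contra huc
    obtain ⟨w, hw, huw, hwn⟩ := Sing.exists_inf_ker_notMem U (B u) (Submodule.span F {u})
      (by rw [finrank_span_singleton hu0]; omega)
    obtain ⟨huX, hu1, -, hu2, -⟩ := hmemU huU
    obtain ⟨hwX, hw1, -, hw2, -⟩ := hmemU hw
    have hgX' := sGL_mem_root (Q := Q) (B := B) huX hwX hQu huw
    obtain ⟨hgv, hgf⟩ := root_fix C h hgX'
    have hfixe : ∀ e, B u e = 0 → B w e = 0 → (sGL Q B u w).val *ᵥ e = e := fun e h1 h2 => by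
      rw [sGL_act C hQu huw, h1, h2]; simp
    have h1 := hfixU _ (root_mono le_top hgX') hgv hgf
      (hfixe e₁ (by rw [C.symm]; exact hu1) (by rw [C.symm]; exact hw1))
      (hfixe e₂ (by rw [C.symm]; exact hu2) (by rw [C.symm]; exact hw2))
      (root_mem_U C (sGL_mem_root (U := U) huU hw hQu huw) hc₀U)
    rw [sGL_act C hQu huw, sub_eq_iff_eq_add, add_right_inj] at h1
    exact hwn (Submodule.mem_span_singleton.mpr ⟨(B u c₀)⁻¹ * (B w c₀ + Q w * B u c₀), by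
      rw [← smul_smul, ← h1, smul_smul, inv_mul_cancel₀ huc, one_smul]⟩)
  refine ⟨by omega, fun hd2 => ?_⟩
  by_contra hany
  have haniso : ∀ y ∈ U, Q y = 0 → y = 0 := fun y hy hQy => by
    by_contra hy0
    exact hany ⟨y, hy, hy0, hQy⟩
  obtain ⟨y₁, hy₁, hy₁c⟩ : ∃ y ∈ U, B y c₀ ≠ 0 := by
    by_contra hne'
    push Not at hne'
    exact hne0 (hn₂ c₀ hc₀U fun y hy => by rw [C.symm]; exact hne' y hy)
  obtain ⟨a, ha, hac, hanot⟩ : ∃ a ∈ U, B a c₀ ≠ 0 ∧ a ∉ Submodule.span F {c₀} := by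
    by_cases hy₁s : y₁ ∈ Submodule.span F {c₀}
    · have hlt := finrank_inf_ker_ge C U c₀
      obtain ⟨y', hy', hy'0⟩ := Submodule.exists_mem_ne_zero_of_ne_bot
        (p := U ⊓ LinearMap.ker (B c₀)) (fun hb => by rw [hb, finrank_bot] at hlt; omega)
      obtain ⟨hy'U, hy'c⟩ := Submodule.mem_inf.mp hy'
      rw [LinearMap.mem_ker] at hy'c
      refine ⟨y₁ + y', U.add_mem hy₁ hy'U, ?_, fun hm => ?_⟩
      · rw [map_add, LinearMap.add_apply, C.symm y', hy'c, add_zero]; exact hy₁c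
      · obtain ⟨t, ht⟩ := Submodule.mem_span_singleton.mp
          ((Submodule.add_mem_iff_right _ hy₁s).mp hm)
        obtain ⟨s, rfl⟩ := Submodule.mem_span_singleton.mp hy₁s
        rw [← ht, map_smul, smul_eq_mul, mul_eq_zero] at hy'c
        rcases hy'c with ht0 | hcc
        · exact hy'0 (by rw [← ht, ht0, zero_smul])
        · rw [map_smul, LinearMap.smul_apply, hcc, smul_zero] at hy₁c
          exact hy₁c rfl
    · exact ⟨y₁, hy₁, hy₁c, hy₁s⟩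
  have hQc : Q c₀ ≠ 0 := fun h0 => hne0 (haniso c₀ hc₀U h0)
  set b := (rGL Q c₀).val *ᵥ a with hb
  have hbe : b = a - ((Q c₀)⁻¹ * B c₀ a) • c₀ := rGL_act C hQc a
  have hbU : b ∈ U := hbe ▸ U.sub_mem ha (U.smul_mem _ hc₀U)
  have hQb : Q b = Q a := mem_iso.mp (rGL_mem C hQc) a
  have hQa : Q a ≠ 0 := fun h0 => hanot (by
    rw [haniso a ha h0]; exact Submodule.zero_mem _)
  have hQb0 : Q b ≠ 0 := hQb ▸ hQa
  obtain ⟨haX, ha1, -, ha2, -⟩ := hmemU ha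
  obtain ⟨hbX, hb1, -, hb2, -⟩ := hmemU hbU
  have hg := rGL_mul_rGL_root C h5 hQa hQb.symm
  have hfix2 : ∀ e, B a e = 0 → B b e = 0 → (rGL Q a * rGL Q b).val *ᵥ e = e :=
    fun e h1 h2 => by rw [mul_act, rGL_fix C hQb0 h2, rGL_fix C hQa h1]
  have hsymm : ∀ y e, B y e = 0 → B e y = 0 := fun y e he => by rw [C.symm]; exact he
  have h1 := hfixU _ hg (hfix2 v (hsymm _ _ (X.left haX)) (hsymm _ _ (X.left hbX)))
    (hfix2 f (hsymm _ _ (X.right haX)) (hsymm _ _ (X.right hbX)))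
    (hfix2 e₁ (hsymm _ _ ha1) (hsymm _ _ hb1)) (hfix2 e₂ (hsymm _ _ ha2) (hsymm _ _ hb2))
    (by
      rw [mul_act, rGL_act C hQb0, rGL_act C hQa]
      exact U.sub_mem (U.sub_mem hc₀U (U.smul_mem _ hbU)) (U.smul_mem _ ha))
  rw [mul_act, rGL_act C hQb0, rGL_act C hQa] at h1
  set s := (Q b)⁻¹ * B b c₀
  set s' := (Q a)⁻¹ * B a (c₀ - s • b)
  have h2 : s • b + s' • a = 0 := by
    rw [sub_sub] at h1
    exact sub_eq_self.mp h1
  have hs : s = 0 := by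
    by_contra hs
    have h3 : s • (a - ((Q c₀)⁻¹ * B c₀ a) • c₀) + s' • a = 0 := hbe ▸ h2
    have h4 : (s * ((Q c₀)⁻¹ * B c₀ a)) • c₀ = (s + s') • a := by
      rw [← sub_eq_zero, ← neg_eq_zero, ← h3]; module
    by_cases hss : s + s' = 0
    · rw [hss, zero_smul, smul_eq_zero] at h4
      rcases h4 with h4 | h4
      · exact hac (by
          rw [C.symm]
          simpa [hs, hQc] using h4)
      · exact hne0 h4
    · exact hanot (Submodule.mem_span_singleton.mpr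
        ⟨(s + s')⁻¹ * (s * ((Q c₀)⁻¹ * B c₀ a)), by
          rw [← smul_smul, h4, smul_smul, inv_mul_cancel₀ hss, one_smul]⟩)
  rw [hs, zero_smul, zero_add, smul_eq_zero] at h2
  rcases h2 with h2 | h2
  · simp [s', hs, hQa] at h2
    exact hac h2
  · exact hanot (by rw [h2]; exact Submodule.zero_mem _)

/-- Regularity and transitivity pass to every singular vector. -/
theorem regular_trans (C : Space Q B) (h5 : 5 ≤ Fintype.card ι) {v f e f' : ι → F}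
    (h : Hyp Q B ⊤ v f) (h' : Hyp Q B ⊤ e f')
    (htrans : ∀ x y : α, ∃ w ∈ X B v f, mv Q B (sGL Q B v w) x = y) (x y : α) :
    ∃ w ∈ X B e f', mv Q B (sGL Q B e w) x = y := by
  obtain ⟨g, hg, hge⟩ := trans_top C h5 (Hyp.ne_zero C h).1 (Hyp.ne_zero C h').1
    (by rw [h.singE, h'.singE])
  obtain ⟨w, hw, hwy⟩ := htrans (mv Q B g⁻¹ x) (mv Q B g⁻¹ y)
  have hI := root_le_iso C _ hg
  set w₁ := g.val *ᵥ w
  have he : B e w₁ = 0 := by rw [← hge, C.B_act hI, X.left hw]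
  have hK : sGL Q B e w₁ ∈ Root Q B ⊤ := sGL_mem_root trivial trivial h'.singE he
  refine ⟨w₁ - B f' w₁ • e, mem_X.mpr ⟨by simp [he, C.self_zero h'.singE],
    by simp [h'.pair' C]⟩, ?_⟩
  rw [show w₁ - B f' w₁ • e = w₁ + (-(B f' w₁)) • e by rw [neg_smul, sub_eq_add_neg],
    sGL_add_self C h'.singE he]
  have h1 := sGL_conj C h.singE (X.left hw) hI
  rw [hge] at h1
  rw [← h1, mv_mul (mul_mem hg (sGL_mem_K C h.singE hw)) (inv_mem hg),
    mv_mul hg (sGL_mem_K C h.singE hw), hwy, mv_inv' hg]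

/-- Commuting elements give commuting translation parts. -/
theorem regular_commute (C : Space Q B) {e f : ι → F} (h : Hyp Q B ⊤ e f) {x : α}
    (hreg : Reg Q B e x) {g g' : GL ι F} (hg : g ∈ Root Q B ⊤) (hg' : g' ∈ Root Q B ⊤)
    (hge : g.val *ᵥ e = e) (hgf : g.val *ᵥ f = f) (hge' : g'.val *ᵥ e = e)
    (hgf' : g'.val *ᵥ f = f) (hcomm : g * g' = g' * g) {c c' : ι → F} (hc : c ∈ X B e f)
    (hc' : c' ∈ X B e f) (hgx : mv Q B g x = mv Q B (sGL Q B e c) x)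
    (hgx' : mv Q B g' x = mv Q B (sGL Q B e c') x) :
    g.val *ᵥ c' + c = g'.val *ᵥ c + c' := by
  have h1 := translate_mul C h.singE hg hg' hge (X.left hc) (X.left hc') hgx hgx'
  rw [hcomm, translate_mul C h.singE hg' hg hge' (X.left hc') (X.left hc) hgx' hgx] at h1
  have hX : ∀ {k : GL ι F}, k ∈ Root Q B ⊤ → k.val *ᵥ e = e → k.val *ᵥ f = f →
      ∀ w ∈ X B e f, k.val *ᵥ w ∈ X B e f := fun hk hke hkf w hw =>
    act_mem_X C h (root_le_iso C _ hk) one_ne_zero (by rw [hke, one_smul])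
      (by rw [hkf, inv_one, one_smul]) hw
  exact (regular_free C h hreg (Submodule.add_mem _ (hX hg' hge' hgf' c hc) hc')
    (Submodule.add_mem _ (hX hg hge hgf c' hc') hc) h1).symm

omit [MulAction ↥(Root Q B ⊤) α] in
theorem notMem_span {a b w : ι → F} (ha : B w a = 0) (hb : B w b ≠ 0) :
    b ∉ Submodule.span F {a} := fun hm => by
  obtain ⟨t, rfl⟩ := Submodule.mem_span_singleton.mp hm
  exact hb (by rw [map_smul, ha, smul_zero])

set_option maxHeartbeats 1000000 in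
/-- The two exceptional shapes of the remaining space. -/
theorem all_regular_contra [Nonempty α] (S : Base Q B τ) {v f : ι → F} (h : Hyp Q B ⊤ v f)
    (hreg : ∀ u, Q u = 0 → u ≠ 0 → ∀ y : α, Reg Q B u y)
    (htrans : ∀ x y : α, ∃ w ∈ X B v f, mv Q B (sGL Q B v w) x = y)
    (hsmall : Fintype.card ι ≤ 8 → (Fintype.card ι = 7 ∧ (2 : F) ≠ 0) ∨ (Fintype.card ι = 8 ∧
      ((∀ W : Submodule F (ι → F), W ≤ X B v f → (∀ w ∈ W, Q w = 0) → finrank F W ≤ 2) ∨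
        Nat.card F = 2))) : False := by
  have C := S.space
  have h7 := S.n7
  have h5 : 5 ≤ Fintype.card ι := by omega
  have hX := X_ndeg C h
  have hdX := MinIndexOrth.finrank_X C h
  obtain ⟨e₁, f₁, H₁⟩ := exists_hyp' C hX (by omega)
  have hd₁ := finrank_step C H₁
  have hn₁ := H₁.ndeg C hX
  obtain ⟨e₂, f₂, H₂⟩ := exists_hyp' C hn₁ (by omega)
  have hd₂ := finrank_step C H₂
  have hn₂ := H₂.ndeg C hn₁
  obtain ⟨he₂X, he₁e₂, hf₁e₂⟩ := mem_perp2.mp H₂.memE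
  obtain ⟨hf₂X, he₁f₂, hf₁f₂⟩ := mem_perp2.mp H₂.memF
  have hmemU : ∀ {y}, y ∈ perp2 B (perp2 B (X B v f) e₁ f₁) e₂ f₂ →
      y ∈ X B v f ∧ B e₁ y = 0 ∧ B f₁ y = 0 ∧ B e₂ y = 0 ∧ B f₂ y = 0 := fun {y} hy => by
    obtain ⟨hy1, h3, h4⟩ := mem_perp2.mp hy
    obtain ⟨hy0, h1, h2⟩ := mem_perp2.mp hy1
    exact ⟨hy0, h1, h2, h3, h4⟩
  obtain ⟨x⟩ := (inferInstance : Nonempty α)
  obtain ⟨c, hc, hcx, hc1, hc2, hc₀U, hc₀0, hdim, hiso⟩ :=
    regular_root S h H₁ H₂ hreg htrans x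
  set U := perp2 B (perp2 B (X B v f) e₁ f₁) e₂ f₂
  set a := B f₁ c
  set b := B f₂ c
  set c₀ := c - a • e₁ - b • e₂ with hc₀
  obtain ⟨hc₀X, hc₀1, hc₀f1, hc₀2, hc₀f2⟩ := hmemU hc₀U
  have hce : c = c₀ + a • e₁ + b • e₂ := by rw [hc₀]; abel
  have hve : B v e₁ = 0 := X.left H₁.memE
  have hev : B e₁ v = 0 := by rw [C.symm]; exact hve
  have hf₁v : B f₁ v = 0 := by rw [C.symm]; exact X.left H₁.memF
  -- the point of view of `e₁`
  have h' : Hyp Q B ⊤ e₁ f₁ := Hyp.mono C H₁ le_top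
  have hvX' : v ∈ X B e₁ f₁ := mem_X.mpr ⟨hev, hf₁v⟩
  set d := c - a • e₁ with hd
  have hde : d = c₀ + b • e₂ := by rw [hd, hce]; abel
  have hvd : B v d = 0 := by simp [hd, X.left hc, hve]
  have hdX' : d ∈ X B e₁ f₁ := mem_X.mpr ⟨by simp [hde, hc₀1, he₁e₂],
    by simp [hde, hc₀f1, hf₁e₂]⟩
  set σ := sGL Q B v d with hσ
  have hσX := sGL_mem_root (Q := Q) (B := B) hvX' hdX' h.singE hvd
  have hσK : σ ∈ Root Q B ⊤ := root_mono le_top hσX
  obtain ⟨hσe, hσf⟩ := root_fix C h' hσX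
  set t := e₂ + a • v with ht
  have htX : t ∈ X B e₁ f₁ := Submodule.add_mem _ (mem_X.mpr ⟨he₁e₂, hf₁e₂⟩)
    (Submodule.smul_mem _ _ hvX')
  have hσx : mv Q B σ x = mv Q B (sGL Q B e₁ t) x := by
    have hav : B e₁ (-(a • v)) = 0 := by simp [hev]
    have hve' : B v (a • e₁) = 0 := by simp [hve]
    have hswap : sGL Q B v (a • e₁) = sGL Q B e₁ (-(a • v)) := gl_ext fun y => by
      rw [sGL_act C h.singE hve', sGL_act C H₁.singE hav, C.smul, C.neg, C.smul, h.singE,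
        H₁.singE]
      simp only [map_neg, map_smul, LinearMap.neg_apply, LinearMap.smul_apply, smul_eq_mul]
      module
    have hKav : sGL Q B e₁ (-(a • v)) ∈ Root Q B ⊤ :=
      sGL_mem_root trivial trivial H₁.singE hav
    have h1 : mv Q B (sGL Q B e₁ (-(a • v))) (mv Q B σ x) = mv Q B (sGL Q B e₁ e₂) x := by
      rw [← hcx, ← mv_mul hKav hσK, ← hswap, hσ, sGL_mul C h.singE hve' hvd,
        show a • e₁ + d = c by rw [hd]; abel]
    rw [← mv_inv hKav (mv Q B σ x), h1, sGL_inv C H₁.singE hav, neg_neg,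
      ← mv_mul (sGL_mem_root trivial trivial H₁.singE (by simp [hev]))
        (sGL_mem_root trivial trivial H₁.singE he₁e₂),
      sGL_mul C H₁.singE (by simp [hev]) he₁e₂, ht, add_comm (a • v)]
  have htr' := regular_trans C h5 h h' htrans
  -- an element commuting with `σ`
  have hcomm : ∀ k ∈ Root Q B ⊤, k.val *ᵥ e₁ = e₁ → k.val *ᵥ f₁ = f₁ → σ * k = k * σ →
      ∀ c' ∈ X B e₁ f₁, mv Q B k x = mv Q B (sGL Q B e₁ c') x →
        B v c' • d - (B d c' + Q d * B v c') • v = k.val *ᵥ t - t := by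
    intro k hk hke hkf hσk c' hc' hkx
    have h1 := regular_commute C h' (hreg e₁ H₁.singE (Hyp.ne_zero C H₁).1 x) hσK hk hσe hσf
      hke hkf hσk htX hc' hσx hkx
    rw [hσ, sGL_act C h.singE hvd, ← sub_eq_zero] at h1
    rw [← sub_eq_zero, ← h1]
    abel
  rcases hsmall (by omega) with ⟨hn7, h2⟩ | ⟨hn8, hw | hq2⟩
  · -- one dimension remains
    have hd' : finrank F U = 1 := by omega
    have hspan : ∀ y ∈ U, y ∈ Submodule.span F {c₀} := by
      have hle : Submodule.span F {c₀} ≤ U := (Submodule.span_singleton_le_iff_mem _ _).mpr hc₀U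
      have := Submodule.eq_of_le_of_finrank_eq hle (by rw [finrank_span_singleton hc₀0, hd'])
      exact fun y hy => this.symm ▸ hy
    have hQc : Q c₀ ≠ 0 := fun h0 => hc₀0 (hn₂ c₀ hc₀U fun y hy => by
      obtain ⟨s, rfl⟩ := Submodule.mem_span_singleton.mp (hspan y hy)
      rw [map_smul, C.self_zero h0, smul_zero])
    have H₁' : Hyp Q B (X B e₁ f₁) v f := ⟨hvX',
      mem_X.mpr ⟨by rw [C.symm]; exact X.right H₁.memE, by rw [C.symm]; exact X.right H₁.memF⟩,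
      h.singE, h.singF, h.pair⟩
    have H₂' : Hyp Q B (perp2 B (X B e₁ f₁) v f) e₂ f₂ := ⟨
      mem_perp2.mpr ⟨mem_X.mpr ⟨he₁e₂, hf₁e₂⟩, X.left he₂X, X.right he₂X⟩,
      mem_perp2.mpr ⟨mem_X.mpr ⟨he₁f₂, hf₁f₂⟩, X.left hf₂X, X.right hf₂X⟩,
      H₂.singE, H₂.singF, H₂.pair⟩
    obtain ⟨c', hc', hcx', hc'v, hc'2, hc₀U', hc₀0', -, -⟩ :=
      regular_root S h' H₁' H₂' hreg htr' x
    have hve₂ : B v e₂ = 0 := X.left he₂X
    have hkX := sGL_mem_root (Q := Q) (B := B) hvX'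
      (mem_X.mpr ⟨he₁e₂, hf₁e₂⟩ : e₂ ∈ X B e₁ f₁) h.singE hve₂
    obtain ⟨hke, hkf⟩ := root_fix C h' hkX
    have h1 := hcomm _ (root_mono le_top hkX) hke hkf
      (by rw [hσ, sGL_mul C h.singE hvd hve₂, sGL_mul C h.singE hve₂ hvd, add_comm])
      c' hc' hcx'.symm
    have hkt : (sGL Q B v e₂).val *ᵥ t = t := by
      rw [sGL_act C h.singE hve₂]
      simp [ht, hve₂, C.self_zero h.singE, C.self_zero H₂.singE, C.symm e₂ v]
    rw [hkt, sub_self, hc'v] at h1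
    simp only [zero_smul, mul_zero, add_zero, zero_sub, neg_eq_zero, smul_eq_zero,
      (Hyp.ne_zero C h).1, or_false] at h1
    obtain ⟨hy1, h03, h04⟩ := mem_perp2.mp hc₀U'
    obtain ⟨hc₀X', h01, h02⟩ := mem_perp2.mp hy1
    obtain ⟨s, hs⟩ := Submodule.mem_span_singleton.mp (hspan (c' - B f c' • v - B f₂ c' • e₂)
      (mem_perp2.mpr ⟨mem_perp2.mpr
        ⟨mem_X.mpr ⟨h01, h02⟩, X.left hc₀X', X.right hc₀X'⟩, h03, h04⟩))
    have h6 : B c₀ (c' - B f c' • v - B f₂ c' • e₂) = 0 := by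
      have : B c₀ c' = 0 := by
        rw [hde, map_add, LinearMap.add_apply, map_smul, LinearMap.smul_apply, hc'2] at h1
        simpa using h1
      simp [this, C.symm c₀ v, X.left hc₀X, C.symm c₀ e₂, hc₀2]
    rw [← hs, map_smul, C.self, smul_eq_mul] at h6
    rcases mul_eq_zero.mp h6 with h6 | h6
    · exact hc₀0' (by rw [← hs, h6, zero_smul])
    · exact (mul_eq_zero.mp h6).elim h2 hQc
  · -- an anisotropic plane remains
    obtain ⟨y, hy, hy0, hQy⟩ := hiso (by omega)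
    obtain ⟨hyX, hy1, hyf1, hy2, hyf2⟩ := hmemU hy
    have hle : Submodule.span F {e₁, e₂, y} ≤ X B v f := Submodule.span_le.mpr (by
      rintro z (rfl | rfl | rfl)
      exacts [H₁.memE, he₂X, hyX])
    have hts : ∀ z ∈ Submodule.span F {e₁, e₂, y}, Q z = 0 := fun z hz => by
      obtain ⟨a, b, d, rfl⟩ := Submodule.mem_span_triple.mp hz
      simp [C.add, C.smul, H₁.singE, H₂.singE, hQy, he₁e₂, hy1, hy2]
    have hd3 : 3 ≤ finrank F ↥(Submodule.span F {e₁, e₂, y}) := by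
      have hli : LinearIndependent F ![e₁, e₂, y] := by
        rw [Fintype.linearIndependent_iff]
        intro g hg
        simp only [Fin.sum_univ_three, Matrix.cons_val_zero, Matrix.cons_val_one,
          Matrix.cons_val] at hg
        have h1 := congrArg (B f₁) hg
        have h2 := congrArg (B f₂) hg
        simp [H₁.pair' C, hf₁e₂, hyf1] at h1
        simp [H₂.pair' C, C.symm f₂ e₁, he₁f₂, hyf2] at h2
        rw [h1, h2] at hg
        simp [hy0] at hg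
        intro i; fin_cases i <;> assumption
      have := finrank_span_eq_card hli
      rw [Fintype.card_fin] at this
      refine this.symm.le.trans (Submodule.finrank_mono (Submodule.span_le.mpr ?_))
      rintro z ⟨i, rfl⟩
      fin_cases i <;> exact Submodule.subset_span (by simp)
    have := hw _ hle hts
    omega
  -- a hyperbolic plane remains, over two elements
  classical
  have := Fintype.ofFinite F
  have h01 : ∀ y : F, y = 0 ∨ y = 1 := fun y => by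
    by_contra hy
    push Not at hy
    have : ({0, 1, y} : Finset F).card ≤ 2 := by
      rw [← hq2, Nat.card_eq_fintype_card, ← Finset.card_univ]
      exact Finset.card_le_card (Finset.subset_univ _)
    simp [Ne.symm hy.1, Ne.symm hy.2] at this
  have h2 : (2 : F) = 0 := by
    have := FiniteField.cast_card_eq_zero F
    rw [← Nat.card_eq_fintype_card, hq2] at this
    exact_mod_cast this
  have hne : ∀ y : F, y ≠ 0 → y = 1 := fun y hy => (h01 y).resolve_left hy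
  by_cases hQc : Q c₀ = 0
  swap
  · obtain ⟨e₃, he₃, he₃0, hQe₃⟩ := hiso (by omega)
    obtain ⟨hc₀e⟩ : Nonempty (B e₃ c₀ = 1) := ⟨hne _ fun h0 => by
      have hle : Submodule.span F {e₃} ≤ U ⊓ LinearMap.ker (B e₃) :=
        (Submodule.span_singleton_le_iff_mem _ _).mpr ⟨he₃, C.self_zero hQe₃⟩
      have hlt : U ⊓ LinearMap.ker (B e₃) < U := lt_of_le_of_ne inf_le_left fun he => he₃0
        (hn₂ e₃ he₃ fun y hy => LinearMap.mem_ker.mp ((SetLike.ext_iff.mp he y).mpr hy).2)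
      have h1 := Submodule.finrank_lt_finrank_of_lt hlt
      have h3 := Submodule.eq_of_le_of_finrank_le hle
        (by rw [finrank_span_singleton he₃0]; omega)
      obtain ⟨s, hs⟩ := Submodule.mem_span_singleton.mp
        (h3.symm ▸ ⟨hc₀U, h0⟩ : c₀ ∈ Submodule.span F {e₃})
      exact hQc (by rw [← hs, C.smul, hQe₃, mul_zero])⟩
    obtain ⟨he₃X, he₃1, he₃f1, he₃2, he₃f2⟩ := hmemU he₃
    set k₁ := e₂ + f₂ + b • e₃ with hk₁
    have hQd : Q d = 1 := by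
      rw [hde, C.add, C.smul, H₂.singE, map_smul, C.symm c₀ e₂, hc₀2]
      simpa using hne _ hQc
    have hQk : Q k₁ = 1 := by
      simp [hk₁, C.add, C.smul, H₂.singE, H₂.singF, hQe₃, H₂.pair, he₃2, he₃f2]
    have hk₁d : B k₁ d = 0 := by
      simp [hk₁, hde, hc₀2, hc₀f2, hc₀e, H₂.pair' C, C.self_zero H₂.singE, C.symm e₃ e₂, he₃2]
      linear_combination b * h2
    have hk₁e : B k₁ e₂ = 1 := by
      simp [hk₁, C.self_zero H₂.singE, H₂.pair' C, C.symm e₃ e₂, he₃2]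
    set k := rGL Q k₁ * rGL Q d
    have hkK : k ∈ Root Q B ⊤ := rGL_mul_rGL_root C h5 (by rw [hQk]; exact one_ne_zero)
      (by rw [hQk, hQd])
    have hQd0 : Q d ≠ 0 := by rw [hQd]; exact one_ne_zero
    have hQk0 : Q k₁ ≠ 0 := by rw [hQk]; exact one_ne_zero
    have hfix : ∀ y, B k₁ y = 0 → B d y = 0 → k.val *ᵥ y = y := fun y h1 h2 => by
      rw [mul_act, rGL_fix C hQd0 h2, rGL_fix C hQk0 h1]
    have hk₁v : B k₁ v = 0 := by
      simp [hk₁, C.symm e₂ v, X.left he₂X, C.symm f₂ v, X.left hf₂X, C.symm e₃ v, X.left he₃X]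
    have hkv : k.val *ᵥ v = v := hfix v hk₁v (by rw [C.symm]; exact hvd)
    have hke : k.val *ᵥ e₁ = e₁ := hfix e₁
      (by simp [hk₁, C.symm e₂ e₁, he₁e₂, C.symm f₂ e₁, he₁f₂, C.symm e₃ e₁, he₃1])
      (by rw [C.symm]; exact X.left hdX')
    have hkf : k.val *ᵥ f₁ = f₁ := hfix f₁
      (by simp [hk₁, C.symm e₂ f₁, hf₁e₂, C.symm f₂ f₁, hf₁f₂, C.symm e₃ f₁, he₃f1])
      (by rw [C.symm]; exact X.right hdX')
    have hkd : k.val *ᵥ d = d := hfix d hk₁d (by rw [C.self, h2, zero_mul])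
    obtain ⟨c', hc', hcx'⟩ := htr' x (mv Q B k x)
    have h1 := hcomm k hkK hke hkf
      (by rw [hσ, conj_sGL_fix C hkK h.singE hkv hvd, hkd]) c' hc' hcx'.symm
    have hke₂ : k.val *ᵥ e₂ = e₂ - k₁ := by
      rw [mul_act, rGL_fix C hQd0 (by simp [hde, C.symm c₀ e₂, hc₀2, C.self_zero H₂.singE]),
        rGL_act C hQk0, hQk, hk₁e]
      simp
    rw [ht, Matrix.mulVec_add, Matrix.mulVec_smul, hke₂, hkv] at h1
    have h3 := congrArg (B e₂) h1
    simp [hde, hc₀2, C.self_zero H₂.singE, C.symm e₂ v, X.left he₂X, C.symm e₂ k₁, hk₁e] at h3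
  -- the translation part is singular
  obtain ⟨f₃, H₃⟩ := exists_hyp C hn₂ hc₀U hc₀0 hQc
  obtain ⟨hf₃X, hf₃1, hf₃f1, hf₃2, hf₃f2⟩ := hmemU H₃.memF
  have hUbot : ∀ y ∈ U, B c₀ y = 0 → B f₃ y = 0 → y = 0 := fun y hy h1 h3 => by
    have hd₃ := finrank_step C H₃
    have hbot : perp2 B U c₀ f₃ = ⊥ := Submodule.finrank_eq_zero.mp (by omega)
    exact (Submodule.mem_bot F).mp (hbot ▸ mem_perp2.mpr ⟨hy, h1, h3⟩)
  have hsing : ∀ {u w : ι → F}, Q w = 0 → B u w = 0 → Q u = 0 → ∀ y,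
      (sGL Q B u w).val *ᵥ y = y + B u y • w - B w y • u := fun hQw huw hQu y => by
    rw [sGL_act C hQu huw, hQw]; simp
  have hne' : ∀ y y' : F, y ≠ y' → y' = y + 1 := fun y y' hy => by
    rcases h01 y with rfl | rfl <;> rcases h01 y' with rfl | rfl
    exacts [absurd rfl hy, (zero_add 1).symm, by linear_combination -h2, absurd rfl hy]
  have h1c₀ : B e₁ c₀ = 0 := hc₀1
  have h2c₀ : B e₂ c₀ = 0 := hc₀2
  have hcc₀ : B c₀ c₀ = 0 := C.self_zero hQc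
  have H₃₁ : Hyp Q B (perp2 B (X B v f) e₁ f₁) c₀ f₃ :=
    ⟨(mem_perp2.mp hc₀U).1, (mem_perp2.mp H₃.memF).1, hQc, H₃.singF, H₃.pair⟩
  have H₂₀ : Hyp Q B (X B v f) e₂ f₂ := ⟨he₂X, hf₂X, H₂.singE, H₂.singF, H₂.pair⟩
  have H₃₂ : Hyp Q B (perp2 B (X B v f) e₂ f₂) c₀ f₃ :=
    ⟨mem_perp2.mpr ⟨hc₀X, hc₀2, hc₀f2⟩, mem_perp2.mpr ⟨hf₃X, hf₃2, hf₃f2⟩, hQc, H₃.singF,
      H₃.pair⟩
  obtain ⟨c₃, hc₃, hcx₃, h31, h33, hU₃, hne₃, -, -⟩ :=
    regular_root S h H₁ H₃₁ hreg htrans x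
  obtain ⟨c₄, hc₄, hcx₄, h42, h43, hU₄, hne₄, -, -⟩ :=
    regular_root S h H₂₀ H₃₂ hreg htrans x
  have hroot : ∀ {u w : ι → F}, u ∈ X B v f → w ∈ X B v f → Q u = 0 → B u w = 0 →
      sGL Q B u w ∈ Root Q B ⊤ ∧ (sGL Q B u w).val *ᵥ v = v ∧ (sGL Q B u w).val *ᵥ f = f :=
    fun hu hw hQu huw => by
    have hgX := sGL_mem_root (Q := Q) (B := B) hu hw hQu huw
    exact ⟨root_mono le_top hgX, root_fix C h hgX⟩
  obtain ⟨hrK, hrv, hrf⟩ := hroot H₁.memE he₂X H₁.singE he₁e₂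
  obtain ⟨hr3K, hr3v, hr3f⟩ := hroot H₁.memE hc₀X H₁.singE h1c₀
  obtain ⟨hr4K, hr4v, hr4f⟩ := hroot he₂X hc₀X H₂.singE h2c₀
  have he₂e₁ : B e₂ (-e₁) = 0 := by rw [map_neg, C.symm, he₁e₂, neg_zero]
  have hreg' := hreg v h.singE (Hyp.ne_zero C h).1 x
  have hac : B c₀ c = 0 := by
    simp [hce, hcc₀, C.symm c₀ e₁, h1c₀, C.symm c₀ e₂, h2c₀]
  have h32 : B e₂ c₃ = 0 := by
    have he := regular_commute C h hreg' hrK hr3K hrv hrf hr3v hr3f
      (by rw [sGL_mul C H₁.singE he₁e₂ h1c₀, sGL_mul C H₁.singE h1c₀ he₁e₂, add_comm])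
      hc hc₃ hcx.symm hcx₃.symm
    rw [hsing H₂.singE he₁e₂ H₁.singE, hsing hQc h1c₀ H₁.singE, h31, hc1, hac] at he
    simpa [(Hyp.ne_zero C H₁).1, sub_add_eq_add_sub, add_comm] using he
  have h41 : B e₁ c₄ = 0 := by
    have he := regular_commute C h hreg' hrK hr4K hrv hrf hr4v hr4f
      (by rw [sGL_swap C H₁.singE H₂.singE he₁e₂, sGL_mul C H₂.singE he₂e₁ h2c₀,
        sGL_mul C H₂.singE h2c₀ he₂e₁, add_comm])
      hc hc₄ hcx.symm hcx₄.symm
    rw [hsing H₂.singE he₁e₂ H₁.singE, hsing hQc h2c₀ H₂.singE, h42, hc2, hac] at he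
    simpa [(Hyp.ne_zero C H₂).1, add_comm] using he
  have hf₃2' : B f₃ e₂ = 0 := by rw [C.symm]; exact hf₃2
  have hf₃1' : B f₃ e₁ = 0 := by rw [C.symm]; exact hf₃1
  have hc₃e : c₃ = B f₁ c₃ • e₁ + e₂ + B f₃ c₃ • c₀ := by
    set z := c₃ - B f₁ c₃ • e₁ - B f₃ c₃ • c₀ with hz
    obtain ⟨hz1, hz2, hz3⟩ := mem_perp2.mp hU₃
    obtain ⟨hz4, hz5, hz6⟩ := mem_perp2.mp hz1
    have hzt : B e₂ z = 0 := by simp [hz, h32, C.symm e₂ e₁, he₁e₂, h2c₀]
    have hzU : z - B f₂ z • e₂ ∈ U := mem_perp2.mpr ⟨mem_perp2.mpr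
      ⟨Submodule.sub_mem _ hz4 (Submodule.smul_mem _ _ he₂X), by simp [hz5, he₁e₂],
        by simp [hz6, hf₁e₂]⟩, by simp [hzt, C.self_zero H₂.singE], by simp [H₂.pair' C]⟩
    have hz0 := sub_eq_zero.mp (hUbot _ hzU (by simp [hz2, C.symm c₀ e₂, h2c₀])
      (by simp [hz3, hf₃2']))
    have hb1 : B f₂ z = 1 := hne _ fun h0 => hne₃ (by rw [hz0, h0, zero_smul])
    rw [hb1, one_smul] at hz0
    rw [← hz0, hz]
    abel
  have hc₄e : c₄ = e₁ + B f₂ c₄ • e₂ + B f₃ c₄ • c₀ := by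
    set z := c₄ - B f₂ c₄ • e₂ - B f₃ c₄ • c₀ with hz
    obtain ⟨hz1, hz2, hz3⟩ := mem_perp2.mp hU₄
    obtain ⟨hz4, hz5, hz6⟩ := mem_perp2.mp hz1
    have hzt : B e₁ z = 0 := by simp [hz, h41, he₁e₂, h1c₀]
    have hzU : z - B f₁ z • e₁ ∈ U := mem_perp2.mpr ⟨mem_perp2.mpr
      ⟨Submodule.sub_mem _ hz4 (Submodule.smul_mem _ _ H₁.memE),
        by simp [hzt, C.self_zero H₁.singE], by simp [H₁.pair' C]⟩,
      by simp [hz5, C.symm e₂ e₁, he₁e₂], by simp [hz6, C.symm f₂ e₁, he₁f₂]⟩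
    have hz0 := sub_eq_zero.mp (hUbot _ hzU (by simp [hz2, C.symm c₀ e₁, h1c₀])
      (by simp [hz3, hf₃1']))
    have hb1 : B f₁ z = 1 := hne _ fun h0 => hne₄ (by rw [hz0, h0, zero_smul])
    rw [hb1, one_smul] at hz0
    rw [← hz0, hz]
    abel
  set a₃ := B f₁ c₃
  set b₃ := B f₃ c₃
  set a₄ := B f₂ c₄
  set b₄ := B f₃ c₄
  have hcc₃ : B c₀ c₃ = 0 := h33
  have hcc₄ : B c₀ c₄ = 0 := h43
  have hrc₃ : (sGL Q B e₁ e₂).val *ᵥ c₃ = c₃ := by
    rw [hsing H₂.singE he₁e₂ H₁.singE, h31, h32]; simp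
  have hrc₄ : (sGL Q B e₁ e₂).val *ᵥ c₄ = c₄ := by
    rw [hsing H₂.singE he₁e₂ H₁.singE, h41, h42]; simp
  have hr3c₄ : (sGL Q B e₁ c₀).val *ᵥ c₄ = c₄ := by
    rw [hsing hQc h1c₀ H₁.singE, h41, hcc₄]; simp
  have htm := fun {g g' : GL ι F} (hg : g ∈ Root Q B ⊤) (hg' : g' ∈ Root Q B ⊤)
    (hgv : g.val *ᵥ v = v) {w w' : ι → F} (hw : B v w = 0) (hw' : B v w' = 0)
    (hgw : mv Q B g x = mv Q B (sGL Q B v w) x) (hgw' : mv Q B g' x = mv Q B (sGL Q B v w') x) =>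
      translate_mul C h.singE hg hg' hgv hw hw' hgw hgw'
  have hc34 : B v (c₃ + c) = 0 := by rw [map_add, X.left hc₃, X.left hc, add_zero]
  -- the first pair
  have n1 : b₃ = b + 1 := hne' _ _ fun hbb => by
    have h1 := htm hrK hr3K hrv (X.left hc) (X.left hc₃) hcx.symm hcx₃.symm
    rw [sGL_mul C H₁.singE he₁e₂ h1c₀, hrc₃] at h1
    refine regular_fix C h hreg H₁.memE (Submodule.add_mem _ he₂X hc₀X) H₁.singE
      (Hyp.ne_zero C H₁).1 (by simp [he₁e₂, h1c₀])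
      (notMem_span (B := B) (w := f₂) (by rw [C.symm]; exact he₁f₂) (by simp [H₂.pair' C, hc₀f2]))
      (z := (b + 1) • f₁ + (a + a₃) • f₂)
      (Submodule.add_mem _ (Submodule.smul_mem _ _ H₁.memF) (Submodule.smul_mem _ _ hf₂X))
      hc34 h1 ?_
    rw [hsing (by simp [C.add, H₂.singE, hQc, h2c₀]) (by simp [he₁e₂, h1c₀]) H₁.singE]
    simp [H₁.pair, he₁f₂, H₂.pair, C.symm e₂ f₁, hf₁e₂, C.symm c₀ f₁, hc₀f1, C.symm c₀ f₂, hc₀f2]
    conv_rhs => rw [hce, hc₃e, ← hbb]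
    match_scalars <;> grind
  -- the second pair
  have n2 : b₄ = a + 1 := hne' _ _ fun hab => by
    have h1 := htm hrK hr4K hrv (X.left hc) (X.left hc₄) hcx.symm hcx₄.symm
    rw [sGL_swap C H₁.singE H₂.singE he₁e₂, sGL_mul C H₂.singE he₂e₁ h2c₀,
      ← sGL_swap C H₁.singE H₂.singE he₁e₂, hrc₄] at h1
    refine regular_fix C h hreg he₂X (Submodule.add_mem _ (Submodule.neg_mem _ H₁.memE) hc₀X)
      H₂.singE (Hyp.ne_zero C H₂).1 (by simp [C.symm e₂ e₁, he₁e₂, h2c₀])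
      (notMem_span (B := B) (w := f₁) hf₁e₂ (by simp [H₁.pair' C, hc₀f1]))
      (z := (a + 1) • f₂ + (b + a₄) • f₁)
      (Submodule.add_mem _ (Submodule.smul_mem _ _ hf₂X) (Submodule.smul_mem _ _ H₁.memF))
      (by rw [map_add, X.left hc₄, X.left hc, add_zero]) h1 ?_
    rw [hsing (by simp [C.add, C.neg, H₁.singE, hQc, h1c₀])
      (by simp [C.symm e₂ e₁, he₁e₂, h2c₀]) H₂.singE]
    simp [H₁.pair, he₁f₂, H₂.pair, C.symm e₂ f₁, hf₁e₂, C.symm c₀ f₁, hc₀f1, C.symm c₀ f₂, hc₀f2]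
    conv_rhs => rw [hce, hc₄e, ← hab]
    match_scalars <;> grind
  -- the third pair
  have n3 : a₄ = a₃ + 1 := hne' _ _ fun haa => by
    have h1 := htm hr3K hr4K hr3v (X.left hc₃) (X.left hc₄) hcx₃.symm hcx₄.symm
    rw [sGL_swap C H₁.singE hQc h1c₀, sGL_swap C H₂.singE hQc h2c₀,
      sGL_mul C hQc (by simp [C.symm c₀ e₁, h1c₀]) (by simp [C.symm c₀ e₂, h2c₀]),
      ← sGL_swap C H₁.singE hQc h1c₀, hr3c₄] at h1
    refine regular_fix C h hreg hc₀X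
      (Submodule.add_mem _ (Submodule.neg_mem _ H₁.memE) (Submodule.neg_mem _ he₂X))
      hQc hc₀0 (by simp [C.symm c₀ e₁, h1c₀, C.symm c₀ e₂, h2c₀])
      (notMem_span (B := B) (w := f₁) hc₀f1 (by simp [H₁.pair' C, hf₁e₂]))
      (z := (a₃ + 1) • f₃ + (b₃ + b₄) • f₁)
      (Submodule.add_mem _ (Submodule.smul_mem _ _ hf₃X) (Submodule.smul_mem _ _ H₁.memF))
      (by rw [map_add, X.left hc₄, X.left hc₃, add_zero]) h1 ?_
    rw [hsing (by simp [C.add, C.neg, H₁.singE, H₂.singE, he₁e₂])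
      (by simp [C.symm c₀ e₁, h1c₀, C.symm c₀ e₂, h2c₀]) hQc]
    simp [H₁.pair, H₃.pair, hf₃1, hf₃2, C.symm e₂ f₁, hf₁e₂, C.symm c₀ f₁, hc₀f1]
    conv_rhs => rw [hc₃e, hc₄e, ← haa]
    match_scalars <;> grind
  -- all three
  have hK12 := mul_mem hrK hr3K
  have h1 := htm hrK hr3K hrv (X.left hc) (X.left hc₃) hcx.symm hcx₃.symm
  rw [hrc₃] at h1
  have h2' := htm hK12 hr4K (by rw [mul_act, hr3v, hrv]) hc34 (X.left hc₄) h1 hcx₄.symm
  rw [mul_act, hr3c₄, hrc₄] at h2'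
  have hu : Q (e₁ + e₂) = 0 := by simp [C.add, H₁.singE, H₂.singE, he₁e₂]
  have huw : B (e₁ + e₂) (e₂ + c₀) = 0 := by
    simp [he₁e₂, h1c₀, h2c₀, C.self_zero H₂.singE]
  have hg : sGL Q B e₁ e₂ * sGL Q B e₁ c₀ * sGL Q B e₂ c₀ = sGL Q B (e₁ + e₂) (e₂ + c₀) :=
    gl_ext fun y => by
    have hQw : Q (e₂ + c₀) = 0 := by simp [C.add, H₂.singE, hQc, h2c₀]
    rw [mul_act, mul_act, hsing hQc h2c₀ H₂.singE, hsing hQc h1c₀ H₁.singE,
      hsing H₂.singE he₁e₂ H₁.singE, hsing hQw huw hu]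
    simp [he₁e₂, h1c₀, h2c₀, hcc₀, C.self_zero H₁.singE, C.self_zero H₂.singE, C.symm e₂ e₁,
      C.symm c₀ e₁, C.symm c₀ e₂]
    module
  rw [hg] at h2'
  refine regular_fix C h hreg (Submodule.add_mem _ H₁.memE he₂X)
    (Submodule.add_mem _ he₂X hc₀X) hu (fun h0 => ?_) huw
    (notMem_span (B := B) (w := f₃) (by simp [hf₃1', hf₃2']) (by simp [hf₃2', H₃.pair' C]))
    (z := (1 + b₃ + b₄) • f₁ + (a + a₃ + 1) • f₃)
    (Submodule.add_mem _ (Submodule.smul_mem _ _ H₁.memF) (Submodule.smul_mem _ _ hf₃X))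
    (by rw [map_add, X.left hc₄, hc34, add_zero]) h2' ?_
  · have := congrArg (B f₁) h0
    simp [H₁.pair' C, hf₁e₂] at this
  rw [hsing (by simp [C.add, H₂.singE, hQc, h2c₀]) huw hu]
  simp [H₁.pair, H₃.pair, hf₃1, hf₃2, C.symm e₂ f₁, hf₁e₂, C.symm c₀ f₁, hc₀f1]
  conv_rhs => rw [hce, hc₃e, hc₄e]
  rw [n1, n2, n3]
  match_scalars <;> grind

end

end Cfsg.Lib.Linear.MinIndexOrth
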