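import Cfsg.Agent.Lib.Linear.MinIndexOrth.Small.Nonsing
import Cfsg.Agent.Lib.Linear.MinIndexOrth.Small.Translate

/-!
# The bound over two or three elements
-/

set_option autoImplicit false

namespace Cfsg.Lib.Linear.MinIndexOrth

open Module Cfsg.Lib.Linear.Orth
open scoped Matrix

noncomputable section

variable {ι : Type} [Fintype ι] [DecidableEq ι] {F : Type*} [Field F] [Finite F]
  {Q : (ι → F) → F} {B : LinearMap.BilinForm F (ι → F)} {p : ℕ} [Fact p.Prime]
  {τ : F →+ ZMod p} {α : Type*} [MulAction ↥(Root Q B ⊤) α] [Fintype α] {T L s : ℕ}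

/-- An action on fewer than `T` points, with numerical bounds over two or three elements. -/
structure SmallBad (Q : (ι → F) → F) (B : LinearMap.BilinForm F (ι → F)) (τ : F →+ ZMod p)
    (T L s : ℕ) (α : Type*) : Prop extends SmallSetup Q B τ L s where
  few : (Nat.card F - 1) * Nat.card α < T
  le_sing : T ≤ singNum Q
  moved : T ≤ (Nat.card F - 1) * (Nat.card F ^ 2 * L) ∨
    (Nat.card F = 2 ∧ 3 * T ≤ 4 * (Nat.card F ^ 2 * L))
  seven : Fintype.card ι = 7 → Nat.card F = 3 ∧ T ≤ 720
  hyper : T ≤ L * Nat.card F ^ (Fintype.card ι - 3)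
  coex : T ≤ (Nat.card F - 1) * Nat.card F ^ (Fintype.card ι - 2) + Nat.card F * L
  last : T ≤ (Nat.card F - 1) * Nat.card F ^ (Fintype.card ι - 2) + Nat.card F * s ∨
    (T = singNum Q ∧
      T ≤ (Nat.card F - 1) * Nat.card F ^ (Fintype.card ι - 2) + Nat.card F * s + (Nat.card F - 1))
  two : T ≤ (Nat.card F - 1) * (2 * Nat.card F ^ (Fintype.card ι - 2))
  movers : T ≤ (Nat.card F - 1) * ((Nat.card F ^ 2 + 1) * s)
  small_ts : (∀ v f, Hyp Q B ⊤ v f → ∀ W : Submodule F (ι → F), W ≤ X B v f →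
      (∀ w ∈ W, Q w = 0) → finrank F W + 2 ≤ Fintype.card ι - 4) ∨
    ((∀ v f, Hyp Q B ⊤ v f → ∀ W : Submodule F (ι → F), W ≤ X B v f →
      (∀ w ∈ W, Q w = 0) → finrank F W + 1 ≤ Fintype.card ι - 4) ∧
      ∀ t, (Nat.card F + 1) * s ≤ t * (Nat.card F ^ (Fintype.card ι - 5) - 1) →
        T ≤ (Nat.card F - 1) * ((Nat.card F + 1) * s + t))
  small8 : ∀ v f, Hyp Q B ⊤ v f → Fintype.card ι ≤ 8 →
    (Fintype.card ι = 7 ∧ (2 : F) ≠ 0) ∨ (Fintype.card ι = 8 ∧
      ((∀ W : Submodule F (ι → F), W ≤ X B v f → (∀ w ∈ W, Q w = 0) → finrank F W ≤ 2) ∨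
        Nat.card F = 2))

variable (S : SmallBad Q B τ T L s α) {v f : ι → F} (h : Hyp Q B ⊤ v f)

include S

omit [MulAction ↥(Root Q B ⊤) α] [Fintype α] in
theorem SmallBad.lt_of {k : ℕ} (hk : T ≤ (Nat.card F - 1) * k) : Nat.card α < k :=
  Nat.lt_of_mul_lt_mul_left (lt_of_lt_of_le S.few hk)

omit [MulAction ↥(Root Q B ⊤) α] [Fintype α] in
theorem SmallBad.q2 : 2 ≤ Nat.card F := by rcases S.q23 with hq | hq <;> omega

include h

omit [MulAction ↥(Root Q B ⊤) α] [Fintype α] in
theorem SmallBad.finrank_eq : finrank F (X B v f) = Fintype.card ι - 2 := by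
  have := MinIndexOrth.finrank_X S.space h
  omega

theorem SmallBad.cases {x : α} {a : ι → F} (ha : a ∈ aset τ Q B v f x) (hQa : Q a ≠ 0) :
    (∀ b ∈ aset τ Q B v f x, b ∈ Submodule.span F {a}) ∨
      ∀ y ∈ X B v f, y ∈ aset τ Q B v f x :=
  S.toSmallSetup.nonsing_cases h
    (S.moved.imp S.lt_of fun ⟨hq2, hm⟩ => ⟨hq2, by
      have := S.few
      rw [hq2, show 2 - 1 = 1 from rfl, one_mul] at this
      omega⟩)
    (fun h7 => ⟨(S.seven h7).1, S.lt_of (k := 360) (by
      rw [(S.seven h7).1]; exact (S.seven h7).2)⟩)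
    (lt_of_lt_of_le S.few S.hyper) ha hQa

omit [Fintype α] in
theorem SmallBad.full_card {x : α} (hfull : ∀ y ∈ X B v f, y ∈ aset τ Q B v f x) :
    Nat.card ↥(aset τ Q B v f x) = Nat.card F ^ (Fintype.card ι - 2) := by
  rw [← S.finrank_eq h, ← card_submodule]
  exact Nat.card_congr
    ⟨fun a => ⟨a.1, aset_le τ a.2⟩, fun a => ⟨a.1, hfull a.1 a.2⟩, fun _ => rfl, fun _ => rfl⟩

theorem SmallBad.orbit {x y : α} (hx : ∀ z ∈ X B v f, z ∈ aset τ Q B v f x)
    (hy : ∀ z ∈ X B v f, z ∈ aset τ Q B v f y) :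
    ∃ w ∈ X B v f, mv Q B (sGL Q B v w) x = y := by
  classical
  by_contra hne
  push Not at hne
  have he : aset τ Q B v f y = aset τ Q B v f x := le_antisymm (fun z hz => hx z (aset_le τ hz))
    fun z hz => hy z (aset_le τ hz)
  have h2 := two_mul_le_fibre τ S.space S.tau h x he hne
  rw [S.full_card h hx] at h2
  have h3 := h2.trans (Finset.card_le_univ _)
  rw [← Nat.card_eq_fintype_card (α := α)] at h3
  have := S.lt_of S.two
  omega

/-- An annihilator inside no line is everything. -/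
theorem SmallBad.nonline_full {x : α} (hnl : NonLine (aset τ Q B v f x)) :
    ∀ y ∈ X B v f, y ∈ aset τ Q B v f x := by
  classical
  by_contra hnf
  have hsing : ∀ a ∈ aset τ Q B v f x, Q a = 0 := by
    intro a ha
    by_contra hQa
    rcases S.cases h ha hQa with hl | hf
    · obtain ⟨b, hb, hba⟩ := hnl a
      exact hba (hl b hb)
    · exact hnf hf
  have C := S.space
  obtain ⟨hWX, hWQ, hWB⟩ := totally_singular S.toBase h hsing
  set W := spanA (aset τ Q B v f x) with hWdef
  have hAW : ∀ a ∈ aset τ Q B v f x, a ∈ W := fun a ha => Submodule.subset_span ha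
  obtain ⟨a, ha, ha0⟩ := hnl 0
  have ha0' : a ≠ 0 := fun h0 => ha0 (by rw [h0]; exact Submodule.zero_mem _)
  obtain ⟨w, hw, hwa⟩ := hnl a
  obtain ⟨b, hb, hQb, hba, hbw⟩ :=
    exists_partner S.toBase h hWX hWQ hWB (hAW a ha) (hAW w hw) hwa
  obtain ⟨R, hcard, hinj, hR⟩ := exists_movers S.toBase h hWX hWB hWQ (hAW a ha) (hAW w hw)
    hb hQb hba hbw
  have hR' := members_le S.toBase h ha (P := fun _ => True) (fun _ _ _ _ _ _ _ _ _ => trivial)
    trivial (R := R) (fun g hg => ⟨(hR g hg).1, (hR g hg).2.1⟩)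
    (fun g hg g' hg' he => hinj hg hg' (by
      simp only [hWdef, ← spanA_map]; exact congrArg spanA he))
  have hq := S.q2
  rcases S.small_ts with hts | ⟨hts, harith⟩
  swap
  · have hd := hts v f h W hWX hWQ
    have hk : Nat.card F + 1 ≤ R.card := by
      have h1 : Nat.card F ^ finrank F W * (Nat.card F + 1) ≤
          Nat.card F ^ finrank F W * R.card := by
        refine le_trans ?_ hcard
        rw [mul_add, mul_one, ← pow_succ]
        exact Nat.add_le_add_right (Nat.pow_le_pow_right Nat.card_pos hd) _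
      exact Nat.le_of_mul_le_mul_left h1 (pow_pos Nat.card_pos _)
    obtain ⟨P, hPdef⟩ : ∃ P : AddSubgroup (ι → F) → Prop, ∀ A, P A ↔ ∀ b ∈ A, Q b = 0 :=
      ⟨_, fun A => Iff.rfl⟩
    have hP : Invariant Q B v f P := fun g c hg hc _ _ A _ hPA => (hPdef _).mpr fun b hb => by
      obtain ⟨z, hz, rfl⟩ := hb
      rw [tr_apply, C.smul, mem_iso.mp (root_le_iso C _ hg), (hPdef A).mp hPA z hz, mul_zero]
    have hR' := members_le S.toBase h ha hP ((hPdef _).mpr hsing) (R := R)
      (fun g hg => ⟨(hR g hg).1, (hR g hg).2.1⟩)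
      (fun g hg g' hg' he => hinj hg hg' (by
        simp only [hWdef, ← spanA_map]; exact congrArg spanA he))
    set T' := (asets (α := α) τ Q B v f).filter P
    set Cs := (cls Q (X B v f) a).toFinite.toFinset
    have hkc : ∀ c ∈ Cs, Nat.card F + 1 ≤ (T'.filter fun A => c ∈ A).card := fun c hc => by
      have h1 := spread (α := α) S.toBase h (aset_le τ ha) ha0' hP ((Set.Finite.mem_toFinset _).mp hc)
      refine le_trans ?_ (le_trans h1 ?_)
      · exact (hk.trans hR').trans (le_of_eq (by congr))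
      refine Finset.card_le_card fun A hA => ?_
      simp only [T', Finset.mem_filter] at hA ⊢
      exact ⟨⟨hA.1, hA.2.2⟩, hA.2.1⟩
    have herase : ∀ A : AddSubgroup (ι → F),
        (Cs.filter fun c => c ∈ A).card + 1 ≤ Nat.card ↥A := fun A => by
      rw [show Nat.card ↥A = (A : Set (ι → F)).toFinite.toFinset.card
        from Nat.card_eq_card_finite_toFinset _,
        ← Finset.card_erase_add_one (s := (A : Set (ι → F)).toFinite.toFinset) (a := 0) (by simp)]
      refine Nat.add_le_add_right (Finset.card_le_card fun c hc => ?_) 1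
      obtain ⟨hc, hcA⟩ := Finset.mem_filter.mp hc
      exact Finset.mem_erase.mpr ⟨((Set.Finite.mem_toFinset _).mp hc).2.1, by simpa using hcA⟩
    have hcov := cover_le S.toBase h (T := T') (Cs := Cs)
      (s := Nat.card F ^ (Fintype.card ι - 5) - 1) hkc fun A hA => by
        obtain ⟨hA, hPA⟩ := Finset.mem_filter.mp hA
        obtain ⟨z, rfl⟩ := mem_asets.mp hA
        obtain ⟨hzX, hzQ, -⟩ := totally_singular S.toBase h (x := z) ((hPdef _).mp hPA)
        have h1 : Nat.card ↥(aset τ Q B v f z) ≤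
            Nat.card ↥(spanA (aset τ Q B v f z)) :=
          Nat.card_le_card_of_injective (fun b => ⟨b.1, Submodule.subset_span b.2⟩)
            fun b b' e => Subtype.ext (congrArg (fun b => b.1) e)
        have h2 : Nat.card F ^ finrank F ↥(spanA (aset τ Q B v f z)) ≤
            Nat.card F ^ (Fintype.card ι - 5) :=
          Nat.pow_le_pow_right Nat.card_pos (by have := hts v f h _ hzX hzQ; omega)
        rw [card_submodule] at h1
        have := herase (aset τ Q B v f z)
        omega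
    have hsum := sum_card_le S.toBase h (T := T') (Finset.filter_subset _ _)
    have hsum' : (Nat.card F + 1) * Cs.card + T'.card ≤ Nat.card α := by
      refine le_trans ?_ hsum
      refine le_trans ?_ (Finset.sum_le_sum fun A _ => herase A)
      rw [Finset.sum_add_distrib, Finset.card_eq_sum_ones T']
      refine Nat.add_le_add_right ?_ _
      rw [mul_comm, ← smul_eq_mul]
      refine le_trans (Finset.card_nsmul_le_sum Cs
        (fun c => (T'.filter fun A => c ∈ A).card) _ hkc) (le_of_eq ?_)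
      exact Finset.sum_card_bipartiteAbove_eq_sum_card_bipartiteBelow fun c A => c ∈ A
    have h1 := cls_zero_ncard C (X B v f) (hsing a ha)
    have h2 := S.lev0 v f h
    have hsc : s ≤ Cs.card := by rw [← Set.ncard_eq_toFinset_card]; omega
    have h4 := Nat.mul_le_mul_left (Nat.card F + 1) hsc
    have := S.lt_of (harith T'.card (h4.trans hcov))
    omega
  have hd := hts v f h W hWX hWQ
  have hk : Nat.card F ^ 2 + 1 ≤ R.card := by
    have h1 : Nat.card F ^ finrank F W * (Nat.card F ^ 2 + 1) ≤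
        Nat.card F ^ finrank F W * R.card := by
      refine le_trans ?_ hcard
      rw [mul_add, mul_one, ← pow_add]
      exact Nat.add_le_add_right (Nat.pow_le_pow_right Nat.card_pos hd) _
    exact Nat.le_of_mul_le_mul_left h1 (pow_pos Nat.card_pos _)
  have hcov := class_le S.toBase h (T := asets (α := α) τ Q B v f) subset_rfl
    (Cs := (cls Q (X B v f) a).toFinite.toFinset) (k := Nat.card F ^ 2 + 1) fun c hc => by
      have h1 := spread (α := α) S.toBase h (aset_le τ ha) ha0' (P := fun _ => True)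
        (fun _ _ _ _ _ _ _ _ _ => trivial) ((Set.Finite.mem_toFinset _).mp hc)
      refine le_trans ?_ (le_trans h1 ?_)
      · exact (hk.trans hR').trans (le_of_eq (by congr))
      refine Finset.card_le_card fun A hA => ?_
      simp only [Finset.mem_filter] at hA ⊢
      exact ⟨hA.1, hA.2.1⟩
  rw [← Set.ncard_eq_toFinset_card] at hcov
  have h1 := cls_zero_ncard C (X B v f) (hsing a ha)
  have h2 := S.lev0 v f h
  have h3 := Nat.mul_le_mul_left (Nat.card F ^ 2 + 1)
    (show s ≤ (cls Q (X B v f) a).ncard by omega)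
  have := S.lt_of S.movers
  omega

/-- The points outside a regular orbit whose annihilator is the line of a vector of a class. -/
theorem SmallBad.line_count {x y : α} (hfull : ∀ z ∈ X B v f, z ∈ aset τ Q B v f x)
    (hy : ¬ ∀ z ∈ X B v f, z ∈ aset τ Q B v f y) {a : ι → F} (ha : a ∈ aset τ Q B v f y)
    (ha0 : a ≠ 0) :
    (Nat.card F - 1) * Nat.card F ^ (Fintype.card ι - 2) +
        Nat.card F * (cls Q (X B v f) a).ncard ≤ (Nat.card F - 1) * Nat.card α := by
  classical
  have C := S.space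
  have hq := S.q2
  set n2 := Fintype.card ι - 2 with hn2
  obtain ⟨P, hPdef⟩ : ∃ P : AddSubgroup (ι → F) → Prop, ∀ A, P A ↔ ¬ ∀ z ∈ X B v f, z ∈ A :=
    ⟨_, fun A => Iff.rfl⟩
  have hP : Invariant Q B v f P := fun g c hg hc hgv hgf A hA hPA =>
    (hPdef _).mpr fun hfull' => (hPdef A).mp hPA fun z hz => by
    obtain ⟨w, hw, hwe⟩ := hfull' _ (Submodule.smul_mem _ c⁻¹
      (act_mem_X C h (root_le_iso C _ hg) hc hgv hgf hz))
    rwa [← tr_injective g hc hwe]
  set Cs := (cls Q (X B v f) a).toFinite.toFinset with hCs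
  set T := (asets (α := α) τ Q B v f).filter fun A => P A ∧ ∃ c ∈ Cs, c ∈ A
  have hTcard : ∀ A ∈ T, Nat.card ↥A = Nat.card F := by
    intro A hA
    obtain ⟨hA, hPA, c, hc, hcA⟩ := Finset.mem_filter.mp hA
    obtain ⟨z, rfl⟩ := mem_asets.mp hA
    obtain ⟨hcX, hc0, -⟩ := (Set.Finite.mem_toFinset _).mp hc
    have hline : ∀ b ∈ aset τ Q B v f z, b ∈ Submodule.span F {c} := by
      by_cases hnl : NonLine (aset τ Q B v f z)
      · exact absurd (S.nonline_full h hnl) ((hPdef _).mp hPA)
      · unfold NonLine at hnl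
        push Not at hnl
        obtain ⟨u, hu⟩ := hnl
        obtain ⟨t, ht⟩ := Submodule.mem_span_singleton.mp (hu c hcA)
        have ht0 : t ≠ 0 := fun h0 => hc0 (by rw [← ht, h0, zero_smul])
        intro b hb
        obtain ⟨t', ht'⟩ := Submodule.mem_span_singleton.mp (hu b hb)
        exact Submodule.mem_span_singleton.mpr
          ⟨t' * t⁻¹, by rw [← ht, smul_smul, mul_assoc, inv_mul_cancel₀ ht0, mul_one, ht']⟩
    refine le_antisymm ?_ ?_
    · refine (Nat.card_le_card_of_injective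
        (fun b : ↥(aset τ Q B v f z) => (⟨b.1, hline b.1 b.2⟩ : ↥(Submodule.span F {c})))
        fun b b' e => Subtype.ext (congrArg (fun b => b.1) e)).trans ?_
      rw [card_submodule, finrank_span_singleton hc0, pow_one]
    · exact Nat.card_le_card_of_injective
        (fun t : F => (⟨t • c, S.toSmallSetup.smul_mem _ hcA t⟩ : ↥(aset τ Q B v f z)))
        fun t t' e => smul_left_injective F hc0 (congrArg Subtype.val e)
  have hcov := cover_le S.toBase h (T := T) (Cs := Cs) (k := 1) (s := Nat.card F - 1)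
    (fun c hc => by
      obtain ⟨A, hA⟩ := Finset.card_pos.mp (lt_of_lt_of_le
        (Finset.card_pos.mpr ⟨_, Finset.mem_filter.mpr
          ⟨mem_asets.mpr ⟨y, rfl⟩, ha, (hPdef _).mpr hy⟩⟩)
        (spread (α := α) S.toBase h (aset_le τ ha) ha0 hP ((Set.Finite.mem_toFinset _).mp hc)))
      obtain ⟨h1, h2, h3⟩ := Finset.mem_filter.mp hA
      exact Finset.card_pos.mpr
        ⟨A, Finset.mem_filter.mpr ⟨Finset.mem_filter.mpr ⟨h1, h3, c, hc, h2⟩, h2⟩⟩)
    (fun A hA => by
      rw [← hTcard A hA,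
        show Nat.card ↥A = (A : Set (ι → F)).toFinite.toFinset.card
          from Nat.card_eq_card_finite_toFinset _,
        ← Finset.card_erase_of_mem (s := (A : Set (ι → F)).toFinite.toFinset) (a := 0) (by simp)]
      refine Finset.card_le_card fun c hc => ?_
      obtain ⟨hc, hcA⟩ := Finset.mem_filter.mp hc
      exact Finset.mem_erase.mpr ⟨((Set.Finite.mem_toFinset _).mp hc).2.1, by simpa using hcA⟩)
  have hnot : aset τ Q B v f x ∉ T := fun hm => (hPdef _).mp (Finset.mem_filter.mp hm).2.1 hfull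
  have hsum := sum_card_le S.toBase h (T := insert (aset τ Q B v f x) T)
    (Finset.insert_subset (mem_asets.mpr ⟨x, rfl⟩) (Finset.filter_subset _ _))
  rw [Finset.sum_insert hnot, S.full_card h hfull, Finset.sum_congr rfl hTcard, Finset.sum_const,
    smul_eq_mul] at hsum
  rw [one_mul, hCs, ← Set.ncard_eq_toFinset_card] at hcov
  refine le_trans ?_ (Nat.mul_le_mul_left _ hsum)
  rw [mul_add, ← hn2]
  refine Nat.add_le_add_left ?_ _
  rw [show (Nat.card F - 1) * (T.card * Nat.card F) = Nat.card F * (T.card * (Nat.card F - 1)) by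
    ring]
  exact Nat.mul_le_mul_left _ hcov

omit h in
theorem SmallBad.contra [MulAction.IsPretransitive ↥(Root Q B ⊤) α] [Nontrivial α] : False := by
  classical
  have C := S.space
  have h5 : 5 ≤ Fintype.card ι := by have := S.n7; omega
  have hq := S.q2
  have hfew := S.few
  by_cases hreg : ∃ v f, Hyp Q B ⊤ v f ∧ ∃ x : α, ∀ z ∈ X B v f, z ∈ aset τ Q B v f x
  swap
  · push Not at hreg
    have hl : ∀ v f, Hyp Q B ⊤ v f → ∀ x : α,
        ∃ u ∈ X B v f, ∀ a ∈ aset τ Q B v f x, a ∈ Submodule.span F {u} := by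
      intro v f h x
      have hn : ¬ NonLine (aset τ Q B v f x) := fun hx => by
        obtain ⟨z, hz, hzn⟩ := hreg v f h x
        exact hzn (S.nonline_full h hx z hz)
      unfold NonLine at hn
      push Not at hn
      obtain ⟨u, hu⟩ := hn
      by_cases hA : ∃ a ∈ aset τ Q B v f x, a ≠ 0
      · obtain ⟨a, ha, ha0⟩ := hA
        refine ⟨a, aset_le τ ha, fun b hb => ?_⟩
        obtain ⟨c, rfl⟩ := Submodule.mem_span_singleton.mp (hu a ha)
        obtain ⟨c', rfl⟩ := Submodule.mem_span_singleton.mp (hu b hb)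
        have hc : c ≠ 0 := fun h0 => ha0 (by rw [h0, zero_smul])
        exact Submodule.mem_span_singleton.mpr
          ⟨c' * c⁻¹, by rw [smul_smul, mul_assoc, inv_mul_cancel₀ hc, mul_one]⟩
      · push Not at hA
        exact ⟨0, Submodule.zero_mem _, fun b hb => by rw [hA b hb]; exact Submodule.zero_mem _⟩
    obtain ⟨x, y, hxy⟩ := exists_pair_ne α
    obtain ⟨⟨g, hg⟩, hgy⟩ := MulAction.exists_smul_eq ↥(Root Q B ⊤) x y
    refine hxy ?_
    rw [← hgy, ← mv_eq hg, mv_of_mem (root_le_stab S.toBase hl x hg)]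
  obtain ⟨v, f, h, x, hfull⟩ := hreg
  -- a point with a full centre ends the proof
  by_cases hgood : ∃ y : α, ∀ a ∈ aset τ Q B v f y, a = 0
  · obtain ⟨y, hy⟩ := hgood
    have hCy : Centre Q B (Stab Q B y) v := by
      intro a ha
      have hmem : a - B f a • v ∈ X B v f := mem_X.mpr
        ⟨by simp [ha, C.self_zero h.singE], by simp [h.pair' C]⟩
      have h1 := mem_sset_of_ann τ C S.tau h hmem fun b hb => by
        rw [hy b hb, map_zero, LinearMap.zero_apply, map_zero]
      rwa [show a - B f a • v = a + (-(B f a)) • v by rw [neg_smul, sub_eq_add_neg],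
        sGL_add_self C h.singE ha] at h1
    obtain ⟨⟨g, hg⟩, hgy⟩ := MulAction.exists_smul_eq ↥(Root Q B ⊤) x y
    have hI := root_le_iso C _ hg
    set u := g.val *ᵥ v with hu
    have hQu : Q u = 0 := by rw [hu, mem_iso.mp hI, h.singE]
    have hu0 : u ≠ 0 := act_ne_zero (Hyp.ne_zero C h).1
    have hregu : Reg Q B u y := by
      rw [← hgy, ← mv_eq hg]
      exact reg_mv C hg h.singE (reg_of_full S.toBase h hfull)
    by_cases huv : B u v = 0
    · have hvu : B v u = 0 := by rw [C.symm]; exact huv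
      have hmem := hCy (-u) (by rw [map_neg, hvu, neg_zero])
      rw [← sGL_swap C hQu h.singE huv] at hmem
      obtain ⟨c, hc⟩ := Submodule.mem_span_singleton.mp (hregu v huv hmem)
      have hc0 : c ≠ 0 := fun h0 => (Hyp.ne_zero C h).1 (by rw [← hc, h0, zero_smul])
      refine reg_not_centre C S.n7 hQu hu0 hregu ?_
      have hceq : u = c⁻¹ • v := by rw [← hc, smul_smul, inv_mul_cancel₀ hc0, one_smul]
      rw [hceq]
      exact centre_smul C h.singE hCy (inv_ne_zero hc0)
    · have h' : Hyp Q B ⊤ u ((B u v)⁻¹ • v) :=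
        ⟨trivial, trivial, hQu, by rw [C.smul, h.singE, mul_zero],
          by rw [map_smul, smul_eq_mul, inv_mul_cancel₀ huv]⟩
      have := lines_of_regular_centre C S.n7 h' hregu
        (centre_smul C h.singE hCy (inv_ne_zero huv))
      have := S.le_sing
      omega
  push Not at hgood
  by_cases hallfull : ∀ y : α, ∀ z ∈ X B v f, z ∈ aset τ Q B v f y
  · have hregall : ∀ u, Q u = 0 → u ≠ 0 → ∀ y : α, Reg Q B u y := by
      intro u hu hu0 y
      obtain ⟨g, hg, hgu⟩ := trans_top C h5 (Hyp.ne_zero C h).1 hu0 (by rw [h.singE, hu])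
      have := reg_mv C hg h.singE (reg_of_full S.toBase h (hallfull (mv Q B g⁻¹ y)))
      rwa [hgu, mv_inv' hg] at this
    haveI : Nonempty α := ⟨x⟩
    exact all_regular_contra S.toBase h hregall
      (fun a b => S.orbit h (hallfull a) (hallfull b)) (S.small8 v f h)
  push Not at hallfull
  obtain ⟨y, z₀, hz₀, hyz₀⟩ := hallfull
  have hyn : ¬ ∀ z ∈ X B v f, z ∈ aset τ Q B v f y := fun hh => hyz₀ (hh z₀ hz₀)
  obtain ⟨a, ha, ha0⟩ := hgood y
  have hcount := S.line_count h hfull hyn ha ha0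
  by_cases hQa : Q a = 0
  swap
  · have := Nat.mul_le_mul_left (Nat.card F) (S.toSmallSetup.card_ge h hQa)
    have := S.coex
    omega
  have h1 := cls_zero_ncard C (X B v f) hQa
  have h2 := S.lev0 v f h
  have h3 := Nat.mul_le_mul_left (Nat.card F) (show s ≤ (cls Q (X B v f) a).ncard by omega)
  rcases S.last with h4 | ⟨hTs, h4⟩
  · omega
  rw [hTs] at h4
  -- divisibility
  set D := Nat.card F ^ (Fintype.card ι - 2) with hD
  have hdc := equivariant_count C h5 (R := fun w y => Reg Q B w y)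
    (fun g hg w y hw hy => reg_mv C hg hw hy) (o := x) (Hyp.ne_zero C h).1 h.singE
  have hF : (Finset.univ.filter fun y : α => Reg Q B v y).card = D := by
    rw [hD, ← S.full_card h hfull, ← card_orbit τ C S.tau h x, ← Fintype.card_subtype,
      ← Nat.card_eq_fintype_card]
    refine Nat.card_congr (Equiv.subtypeEquivRight fun y => ⟨fun hy => ?_, ?_⟩)
    · obtain ⟨w, hw, hwy⟩ := S.orbit h hfull (full_of_reg S.toBase h hy)
      exact ⟨w, hw, hwy⟩
    · rintro ⟨w, hw, rfl⟩
      refine reg_of_full S.toBase h ?_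
      rw [aset_mv τ C h.singE hw]
      exact hfull
  rw [hF] at hdc
  have hT2 := S.two
  rw [hTs] at hT2 hfew
  rw [← hD] at hT2
  set N := Nat.card α
  set G := {w : ι → F | (w ≠ 0 ∧ Q w = 0) ∧ Reg Q B w x}.ncard
  have hpos : 1 ≤ (cls Q (X B v f) a).ncard :=
    (Set.ncard_pos (Set.toFinite _)).mpr
      ⟨a, aset_le τ ha, ha0, 1, one_ne_zero, by rw [one_pow, one_mul]⟩
  have hDN : D < N := by
    by_contra hge
    have := Nat.mul_le_mul_left (Nat.card F - 1) (not_lt.mp hge)
    have := Nat.mul_le_mul_left (Nat.card F) hpos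
    omega
  have hDpos : 0 < D := pow_pos Nat.card_pos _
  rcases S.q23 with hq2 | hq3
  · rw [hq2] at h3 h4 hcount hT2 hfew
    have hT : singNum Q = N + 1 := by omega
    rw [hT, add_mul, one_mul] at hdc
    have hdvd : N ∣ D := (Nat.dvd_add_right (Dvd.intro D rfl)).mp ⟨G, hdc⟩
    have := Nat.le_of_dvd hDpos hdvd
    omega
  · rw [hq3] at h3 h4 hcount hT2 hfew
    have hT : singNum Q = 2 * N + 1 ∨ singNum Q = 2 * N + 2 := by omega
    rcases hT with hT | hT
    · rw [hT, add_mul, one_mul] at hdc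
      have hdvd : N ∣ D := (Nat.dvd_add_right ⟨2 * D, by ring⟩).mp ⟨G, hdc⟩
      have := Nat.le_of_dvd hDpos hdvd
      omega
    · rw [hT, add_mul] at hdc
      have hdvd : N ∣ 2 * D := (Nat.dvd_add_right ⟨2 * D, by ring⟩).mp ⟨G, hdc⟩
      obtain ⟨k, hk⟩ := hdvd
      rcases k with _ | _ | k
      · omega
      · omega
      · have : N * 2 ≤ N * (k + 1 + 1) := Nat.mul_le_mul_left _ (by omega)
        omega

end

end Cfsg.Lib.Linear.MinIndexOrth
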