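import Cfsg.Agent.Lib.Linear.MinIndexOrth.Small.Main

/-!
# Spaces of minus type over two or three elements
-/

set_option autoImplicit false

namespace Cfsg.Lib.Linear.MinIndexOrth

open Module Cfsg.Lib.Linear.Orth
open scoped Matrix

noncomputable section

variable {ι : Type} [Fintype ι] [DecidableEq ι] {F : Type*} [Field F] [Finite F]
  {Q : (ι → F) → F} {B : LinearMap.BilinForm F (ι → F)}

/-- A totally singular subspace of half the dimension makes many singular vectors. -/
theorem ts_count (C : Space Q B) : ∀ (k : ℕ) {U : Submodule F (ι → F)}, NDeg B U →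
    finrank F U = 2 * k → ∀ {W : Submodule F (ι → F)}, W ≤ U → (∀ x ∈ W, Q x = 0) →
      k ≤ finrank F W →
      (Nat.card F : ℤ) ^ (2 * k) + ((Nat.card F : ℤ) - 1) * (Nat.card F : ℤ) ^ k ≤
        (Nat.card F : ℤ) * level Q U 0 := by
  intro k
  induction k with
  | zero =>
    intro U _ _ W _ _ _
    have h0 : (1 : ℤ) ≤ level Q U 0 := by exact_mod_cast one_le_level_zero C U
    have h1 : (0 : ℤ) ≤ (Nat.card F : ℤ) := Int.natCast_nonneg _
    simp only [Nat.mul_zero, pow_zero, mul_one]
    have h2 := mul_le_mul_of_nonneg_left h0 h1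
    linarith [h2]
  | succ k ih =>
    intro U hU hd W hWU hW hk
    obtain ⟨U', W', hU', hWU', hW', hk', hd', hstep⟩ := ts_step C hU hWU hW hk
    have h1 := ih hU' (by omega) hWU' hW' hk'
    rw [hstep, show finrank F U' = 2 * k by omega]
    have h2 := mul_le_mul_of_nonneg_left h1 (Int.natCast_nonneg (Nat.card F))
    have e1 : (Nat.card F : ℤ) ^ (2 * (k + 1)) =
        (Nat.card F : ℤ) ^ 2 * (Nat.card F : ℤ) ^ (2 * k) := by
      rw [← pow_add]; congr 1; omega
    rw [e1, pow_succ]
    linear_combination h2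

/-- The levels of an anisotropic plane over two or three elements. -/
theorem level_plane (C : Space Q B) (hq : Nat.card F = 2 ∨ Nat.card F = 3)
    {U : Submodule F (ι → F)} (hU : NDeg B U) (hd : finrank F U = 2)
    (haniso : ∀ y ∈ U, Q y = 0 → y = 0) {c : F} (hc : c ≠ 0) :
    Nat.card F + 1 ≤ level Q U c := by
  classical
  have := Fintype.ofFinite F
  have hle : ∀ S : Finset (ι → F), (∀ x ∈ S, x ∈ U ∧ Q x = c) → S.card ≤ level Q U c :=
    fun S hS => by
      rw [level, ← Fintype.card_coe S, ← Nat.card_eq_fintype_card]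
      exact Nat.card_le_card_of_injective (fun x => ⟨x.1, hS x.1 x.2⟩)
        fun x y e => Subtype.ext (congrArg (fun x => x.1) e)
  have h01 : ∀ y : F, y ≠ 0 → Nat.card F = 2 → y = 1 := fun y hy h2 => by
    by_contra hy1
    have : ({0, 1, y} : Finset F).card ≤ 2 := by
      rw [← h2, Nat.card_eq_fintype_card, ← Finset.card_univ]
      exact Finset.card_le_card (Finset.subset_univ _)
    simp [Ne.symm hy, Ne.symm hy1] at this
  rcases hq with h2 | h3
  · rw [h2]
    refine le_trans ?_ (hle (((U : Set (ι → F)).toFinite.toFinset).erase 0) fun x hx => ?_)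
    · rw [Finset.card_erase_of_mem (by simp), ← Nat.card_eq_card_finite_toFinset,
        SetLike.coe_sort_coe, card_submodule, h2, hd]
      norm_num
    · obtain ⟨hx0, hxU⟩ := Finset.mem_erase.mp hx
      replace hxU : x ∈ U := by simpa using hxU
      refine ⟨hxU, ?_⟩
      rw [h01 c hc h2, h01 (Q x) (fun h0 => hx0 (haniso x hxU h0)) h2]
  · rw [h3]
    have hcard : ∀ y : F, y = 0 ∨ y = 1 ∨ y = -1 := fun y => by
      by_contra hne
      push Not at hne
      have h21 : (-1 : F) ≠ 1 := by
        intro h11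
        have h2' : (2 : F) = 0 := by linear_combination -h11
        haveI : CharP F 2 := CharTwo.of_one_ne_zero_of_two_eq_zero one_ne_zero h2'
        have := FiniteField.even_card_of_char_two (F := F) (ringChar.eq F 2)
        rw [← Nat.card_eq_fintype_card, h3] at this
        omega
      have : ({0, 1, -1, y} : Finset F).card ≤ 3 := by
        rw [← h3, Nat.card_eq_fintype_card, ← Finset.card_univ]
        exact Finset.card_le_card (Finset.subset_univ _)
      simp [Ne.symm hne.1, Ne.symm hne.2.1, Ne.symm hne.2.2, h21.symm] at this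
    have h2' : (2 : F) ≠ 0 := fun h0 => by
      haveI : CharP F 2 := CharTwo.of_one_ne_zero_of_two_eq_zero one_ne_zero h0
      have := FiniteField.even_card_of_char_two (F := F) (ringChar.eq F 2)
      rw [← Nat.card_eq_fintype_card, h3] at this
      omega
    -- a pair of perpendicular vectors with equal norms
    have pair : ∀ u ∈ U, u ≠ 0 → ∃ w ∈ U, B u w = 0 ∧ Q w = Q u ∧ w ≠ u ∧ w ≠ -u ∧ w ≠ 0 := by
      intro u hu hu0
      have hlt := finrank_inf_ker_ge C U u
      obtain ⟨w, hw, hw0⟩ := Submodule.exists_mem_ne_zero_of_ne_bot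
        (p := U ⊓ LinearMap.ker (B u)) (fun hb => by rw [hb, finrank_bot] at hlt; omega)
      obtain ⟨hwU, huw⟩ := Submodule.mem_inf.mp hw
      rw [LinearMap.mem_ker] at huw
      have hQu : Q u ≠ 0 := fun h0 => hu0 (haniso u hu h0)
      have hne : w ≠ u ∧ w ≠ -u := by
        constructor
        · intro e
          rw [e, C.self, mul_eq_zero] at huw
          exact huw.elim h2' hQu
        · intro e
          rw [e, map_neg, neg_eq_zero, C.self, mul_eq_zero] at huw
          exact huw.elim h2' hQu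
      refine ⟨w, hwU, huw, ?_, hne.1, hne.2, hw0⟩
      have hQw : Q w ≠ 0 := fun h0 => hw0 (haniso w hwU h0)
      have hsum : Q u + Q w ≠ 0 := fun h0 => by
        have h1 := haniso _ (U.add_mem hu hwU) (by rw [C.add, huw, add_zero, h0])
        exact hne.2 (eq_neg_of_add_eq_zero_right h1)
      rcases hcard (Q u) with e | e | e <;> rcases hcard (Q w) with e' | e' | e' <;>
        first
        | exact absurd e hQu
        | exact absurd e' hQw
        | (exfalso; apply hsum; rw [e, e']; ring1)
        | rw [e, e']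
    obtain ⟨u₀, hu₀, hu₀0⟩ := Submodule.exists_mem_ne_zero_of_ne_bot
      (p := U) (fun hb => by rw [hb, finrank_bot] at hd; omega)
    obtain ⟨u, hu, hu0, hQu⟩ : ∃ u ∈ U, u ≠ 0 ∧ Q u = c := by
      obtain ⟨w₀, hw₀, huw, hQw, -, hne, -⟩ := pair u₀ hu₀ hu₀0
      have hQu₀ : Q u₀ ≠ 0 := fun h0 => hu₀0 (haniso u₀ hu₀ h0)
      have hsum : Q (u₀ + w₀) = -Q u₀ := by
        rw [C.add, huw, hQw, add_zero]
        rcases hcard (Q u₀) with e | e | e
        · exact absurd e hQu₀
        all_goals
          rw [e]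
          have h30 : (3 : F) = 0 := by
            have := FiniteField.cast_card_eq_zero F
            rw [← Nat.card_eq_fintype_card, h3] at this
            exact_mod_cast this
          linear_combination (norm := ring_nf) (1 : F) * h30 * (Q u₀)
          try rw [e]; try ring_nf
      by_cases hc0 : Q u₀ = c
      · exact ⟨u₀, hu₀, hu₀0, hc0⟩
      refine ⟨u₀ + w₀, U.add_mem hu₀ hw₀, fun h0 => hne (eq_neg_of_add_eq_zero_right h0), ?_⟩
      rw [hsum]
      rcases hcard c with e | e | e <;> rcases hcard (Q u₀) with e' | e' | e' <;>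
        first
        | exact absurd e hc
        | exact absurd e' hQu₀
        | exact absurd (e'.trans e.symm) hc0
        | rw [e, e', neg_neg]
        | rw [e, e']
    obtain ⟨w, hw, -, hQw, hne1, hne2, hw0⟩ := pair u hu hu0
    have hn2 : ∀ y : ι → F, y ≠ 0 → y ≠ -y := fun y hy e => by
      have h1 : (2 : F) • y = 0 := by rw [two_smul]; nth_rewrite 2 [e]; rw [add_neg_cancel]
      exact hy ((smul_eq_zero.mp h1).resolve_left h2')
    refine le_trans ?_ (hle {u, -u, w, -w} fun x hx => ?_)
    · have : -u ≠ -w := fun e => hne1 (neg_injective e).symm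
      rw [Finset.card_insert_of_notMem (by
          simp [hn2 u hu0, Ne.symm hne1, show u ≠ -w from fun e => hne2 (by rw [e, neg_neg])]),
        Finset.card_insert_of_notMem (by simp [Ne.symm hne2, this]),
        Finset.card_insert_of_notMem (by simp [hn2 w hw0]), Finset.card_singleton]
    · simp only [Finset.mem_insert, Finset.mem_singleton] at hx
      rcases hx with rfl | rfl | rfl | rfl
      exacts [⟨hu, hQu⟩, ⟨U.neg_mem hu, by rw [C.neg, hQu]⟩, ⟨hw, by rw [hQw, hQu]⟩,
        ⟨U.neg_mem hw, by rw [C.neg, hQw, hQu]⟩]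

/-- The levels of a space of minus type over two or three elements. -/
theorem level_minus_lower (C : Space Q B) (hq : Nat.card F = 2 ∨ Nat.card F = 3) {c : F}
    (hc : c ≠ 0) : ∀ (k : ℕ) {U : Submodule F (ι → F)}, NDeg B U → finrank F U = 2 * k + 2 →
    (∀ W : Submodule F (ι → F), W ≤ U → (∀ x ∈ W, Q x = 0) → finrank F W ≤ k) →
    (Nat.card F : ℤ) ^ (2 * k + 1) + (Nat.card F : ℤ) ^ k ≤ level Q U c := by
  intro k
  induction k with
  | zero =>
    intro U hU hd hW
    have haniso : ∀ y ∈ U, Q y = 0 → y = 0 := fun y hy hQy => by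
      by_contra hy0
      have := hW (Submodule.span F {y}) ((Submodule.span_singleton_le_iff_mem _ _).mpr hy)
        (fun x hx => by
          obtain ⟨t, rfl⟩ := Submodule.mem_span_singleton.mp hx
          rw [C.smul, hQy, mul_zero])
      rw [finrank_span_singleton hy0] at this
      omega
    have := level_plane C hq hU (by omega) haniso hc
    simp only [Nat.mul_zero, Nat.zero_add, pow_one, pow_zero]
    exact_mod_cast this
  | succ k ih =>
    intro U hU hd hW
    obtain ⟨e, f, H⟩ := exists_hyp' C hU (by omega)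
    have hd' := finrank_step C H
    have h1 := ih (H.ndeg C hU) (by omega) (fun W hWle hWts => by
      have hsup : ∀ x ∈ W ⊔ Submodule.span F {e}, Q x = 0 := by
        intro x hx
        obtain ⟨w, hw, s, hs, rfl⟩ := Submodule.mem_sup.mp hx
        obtain ⟨t, rfl⟩ := Submodule.mem_span_singleton.mp hs
        rw [C.add, hWts w hw, C.smul, H.singE, map_smul, C.symm w e, (mem_perp2.mp (hWle hw)).2.1]
        simp
      have h2 := hW _ (sup_le (fun x hx => (mem_perp2.mp (hWle hx)).1)
        ((Submodule.span_singleton_le_iff_mem _ _).mpr H.memE)) hsup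
      have hlt : W < W ⊔ Submodule.span F {e} := lt_of_le_of_ne le_sup_left fun he => by
        have heW : e ∈ W := he ▸ Submodule.mem_sup_right (Submodule.mem_span_singleton_self e)
        have := (mem_perp2.mp (hWle heW)).2.2
        rw [H.pair' C] at this
        exact one_ne_zero this
      have := Submodule.finrank_lt_finrank_of_lt hlt
      omega)
    rw [level_step C H c, show finrank F ↥(perp2 B U e f) = 2 * k + 2 by omega]
    have h2 := mul_le_mul_of_nonneg_left h1 (Int.natCast_nonneg (Nat.card F))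
    have e1 : (Nat.card F : ℤ) ^ (2 * (k + 1) + 1) =
        (Nat.card F : ℤ) ^ 2 * (Nat.card F : ℤ) ^ (2 * k + 1) := by
      rw [← pow_add]; congr 1; omega
    have e2 : (Nat.card F : ℤ) ^ (2 * k + 2) =
        (Nat.card F : ℤ) * (Nat.card F : ℤ) ^ (2 * k + 1) := by
      rw [← pow_succ']
    rw [e1, e2, pow_succ' _ k]
    linarith

/-- The numerical facts for minus type, with `b = q ^ (m - 2)`. -/
theorem minus_numbers {q b T s : ℕ} (hq : q = 2 ∨ q = 3) (hb : q ^ 2 ≤ b)
    (hT : T + q ^ 2 * b + 1 = q ^ 3 * b ^ 2 + q * b) (hs : s + q * b + 1 = q * b ^ 2 + b) :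
    T ≤ (q - 1) * (q ^ 2 * (q * b ^ 2 + b)) ∧ T ≤ (q * b ^ 2 + b) * (q * b ^ 2) ∧
      T ≤ (q - 1) * (q ^ 2 * b ^ 2) + q * (q * b ^ 2 + b) ∧
      T ≤ (q - 1) * (q ^ 2 * b ^ 2) + q * s + (q - 1) ∧
      T ≤ (q - 1) * (2 * (q ^ 2 * b ^ 2)) ∧ T ≤ (q - 1) * ((q ^ 2 + 1) * s) := by
  rcases hq with rfl | rfl
  · have h2 : 4 * b ≤ b ^ 2 := by rw [sq]; exact Nat.mul_le_mul_right b hb
    have h3 : (2 * b ^ 2 + b) * 4 ≤ (2 * b ^ 2 + b) * (2 * b ^ 2) :=
      Nat.mul_le_mul_left _ (by omega)
    refine ⟨?_, ?_, ?_, ?_, ?_, ?_⟩ <;> omega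
  · have h2 : 9 * b ≤ b ^ 2 := by rw [sq]; exact Nat.mul_le_mul_right b hb
    have h3 : (3 * b ^ 2 + b) * 9 ≤ (3 * b ^ 2 + b) * (3 * b ^ 2) :=
      Nat.mul_le_mul_left _ (by omega)
    refine ⟨?_, ?_, ?_, ?_, ?_, ?_⟩ <;> omega

/-- The bound for minus type over two or three elements. -/
theorem singNum_le_minus {α : Type*} [MulAction ↥(Root Q B ⊤) α] [Finite α] [Nontrivial α]
    [MulAction.IsPretransitive ↥(Root Q B ⊤) α] (C : Space Q B)
    (hq : Nat.card F = 2 ∨ Nat.card F = 3) {m : ℕ} (hm : 4 ≤ m) (hn : Fintype.card ι = 2 * m)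
    (hz : (singNum Q : ℤ) = ((Nat.card F : ℤ) ^ m + 1) * ((Nat.card F : ℤ) ^ (m - 1) - 1)) :
    singNum Q ≤ (Nat.card F - 1) * Nat.card α := by
  classical
  have := Fintype.ofFinite α
  obtain ⟨j, rfl⟩ : ∃ j, m = j + 2 := ⟨m - 2, by omega⟩
  rw [show j + 2 - 1 = j + 1 by omega] at hz
  by_contra hlt
  push Not at hlt
  obtain ⟨p, hp, τ, hτ⟩ := exists_tau (F := F)
  have := Fact.mk hp
  set q := Nat.card F with hqdef
  have hq2 : 2 ≤ q := by omega
  set b := q ^ j with hb
  have hbq : q ^ 2 ≤ b := Nat.pow_le_pow_right (by omega) (by omega)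
  have hT : (singNum Q : ℤ) =
      (q : ℤ) ^ 3 * (b : ℤ) ^ 2 - (q : ℤ) ^ 2 * b + q * b - 1 := by
    rw [hz, hb]; push_cast; ring
  have hX0 : ∀ v f, Hyp Q B ⊤ v f →
      (level Q (X B v f) 0 : ℤ) = q * (b : ℤ) ^ 2 - q * b + b := by
    intro v f h
    have h1 := level_step C h (0 : F)
    have h2 : (level Q (⊤ : Submodule F (ι → F)) 0 : ℤ) = singNum Q + 1 := by
      have h3 := singNum_add_one C
      rw [level, show Nat.card {x : ι → F // x ∈ (⊤ : Submodule F (ι → F)) ∧ Q x = 0} =
        Nat.card {w : ι → F // Q w = 0} from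
          Nat.card_congr (Equiv.subtypeEquivRight fun x => by simp), ← h3]
      push_cast; rfl
    rw [h2, hT, show finrank F ↥(perp2 B ⊤ v f) = 2 * j + 2 by
      have := MinIndexOrth.finrank_X C h
      change finrank F ↥(perp2 B ⊤ v f) + 2 = _ at this
      omega, ← hqdef] at h1
    have e1 : (q : ℤ) ^ (2 * j + 2) = (q : ℤ) ^ 2 * (b : ℤ) ^ 2 := by
      rw [hb]; push_cast; ring
    rw [e1] at h1
    refine mul_left_cancel₀ (show (q : ℤ) ≠ 0 by exact_mod_cast (by omega : q ≠ 0)) ?_
    linear_combination -h1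
  have hts : ∀ v f, Hyp Q B ⊤ v f → ∀ W : Submodule F (ι → F), W ≤ X B v f →
      (∀ w ∈ W, Q w = 0) → finrank F W ≤ j := by
    intro v f h W hWX hW
    by_contra hW'
    have h1 := ts_count C (j + 1) (X_ndeg C h)
      (by have := MinIndexOrth.finrank_X C h; omega) hWX hW (by omega)
    rw [hX0 v f h, ← hqdef] at h1
    have e1 : (q : ℤ) ^ (2 * (j + 1)) = (q : ℤ) ^ 2 * (b : ℤ) ^ 2 := by
      rw [hb]; push_cast; ring
    have e2 : (q : ℤ) ^ (j + 1) = q * b := by rw [hb]; push_cast; ring
    rw [e1, e2] at h1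
    have hb0 : (1 : ℤ) ≤ b := by exact_mod_cast Nat.one_le_pow _ _ (by omega)
    have hq0 : (2 : ℤ) ≤ q := by exact_mod_cast hq2
    nlinarith [mul_le_mul_of_nonneg_left hq0 (show (0 : ℤ) ≤ q * b by positivity)]
  have hnum : q = 2 ∨ q = 3 := hq
  have e3 : q ^ (Fintype.card ι - 3) = q * b ^ 2 := by
    rw [hb, ← pow_mul, ← pow_succ']; congr 1; omega
  have e4 : q ^ (Fintype.card ι - 2) = q ^ 2 * b ^ 2 := by
    rw [hb, ← pow_mul, ← pow_add]; congr 1; omega
  have hb1 : 1 ≤ b := Nat.one_le_pow _ _ (by omega)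
  have hbb : b ≤ b ^ 2 := Nat.le_self_pow (by omega) b
  have hqb : q * b ≤ q * b ^ 2 + b := by
    have := Nat.mul_le_mul_left q hbb
    omega
  set s := q * b ^ 2 + b - q * b - 1 with hs
  have hs0 : s + q * b + 1 = q * b ^ 2 + b := by
    have := Nat.mul_le_mul_left q hbb
    omega
  have hTnat : singNum Q + q ^ 2 * b + 1 = q ^ 3 * b ^ 2 + q * b := by zify; linarith only [hT]
  obtain ⟨n1, n2, n3, n4, n5, n6⟩ := minus_numbers hnum hbq hTnat hs0
  have S : SmallBad Q B τ (singNum Q) (q * b ^ 2 + b) s α := by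
    refine { space := C, n7 := by omega, tau := hτ, q23 := hq,
             lev := ?_, lev0 := ?_, witt := ?_, few := hlt, le_sing := le_rfl, moved := Or.inl n1,
             seven := fun h7 => by omega,
             hyper := by rw [e3]; exact n2, coex := by rw [e4]; exact n3,
             last := Or.inr ⟨rfl, by rw [e4]; exact n4⟩, two := by rw [e4]; exact n5,
             movers := n6, small_ts := Or.inl ?_, small8 := ?_ }
    · intro v f h c hc
      have h1 := level_minus_lower C hq hc j (X_ndeg C h)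
        (by have := MinIndexOrth.finrank_X C h; omega) (hts v f h)
      rw [← hqdef] at h1
      zify
      have e1 : (q : ℤ) ^ (2 * j + 1) = q * (b : ℤ) ^ 2 := by rw [hb]; push_cast; ring
      have e2 : (q : ℤ) ^ j = b := by rw [hb]; push_cast; ring
      rw [e1, e2] at h1
      exact h1
    · intro v f h
      have h1 := hX0 v f h
      have h2 : level Q (X B v f) 0 + q * b = q * b ^ 2 + b := by zify; linarith only [h1]
      omega
    · intro h8 _ v f h W hWX hW
      have := hts v f h W hWX hW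
      omega
    · intro v f h W hWX hW
      have := hts v f h W hWX hW
      omega
    · intro v f h h8
      refine Or.inr ⟨by omega, Or.inl fun W hWX hW => ?_⟩
      have := hts v f h W hWX hW
      omega
  exact S.contra

end

end Cfsg.Lib.Linear.MinIndexOrth
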