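import Cfsg.Agent.Lib.Linear.MinIndexOrth.Small.Endgame

/-!
# Annihilators with a non-singular vector over two or three elements
-/

set_option autoImplicit false

namespace Cfsg.Lib.Linear.MinIndexOrth

open Module Cfsg.Lib.Linear.Orth
open scoped Matrix

noncomputable section

variable {ι : Type} [Fintype ι] [DecidableEq ι] {F : Type*} [Field F] [Finite F]
  {Q : (ι → F) → F} {B : LinearMap.BilinForm F (ι → F)} {p : ℕ} [Fact p.Prime]
  {τ : F →+ ZMod p}

/-- A space over two or three elements with lower bounds for the numbers of vectors of each norm. -/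
structure SmallSetup (Q : (ι → F) → F) (B : LinearMap.BilinForm F (ι → F)) (τ : F →+ ZMod p)
    (L s : ℕ) : Prop extends Base Q B τ where
  q23 : Nat.card F = 2 ∨ Nat.card F = 3
  lev : ∀ v f, Hyp Q B ⊤ v f → ∀ c : F, c ≠ 0 → L ≤ level Q (X B v f) c
  lev0 : ∀ v f, Hyp Q B ⊤ v f → s + 1 ≤ level Q (X B v f) 0
  witt : Fintype.card ι = 8 → (2 : F) ≠ 0 → ∀ v f, Hyp Q B ⊤ v f →
    ∀ W : Submodule F (ι → F), W ≤ X B v f → (∀ w ∈ W, Q w = 0) → finrank F W ≤ 2

omit [Finite F] in
theorem char_ne_two_of_three [Finite F] (hq3 : Nat.card F = 3) : (2 : F) ≠ 0 := fun h0 => by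
  have := Fintype.ofFinite F
  haveI : CharP F 2 := CharTwo.of_one_ne_zero_of_two_eq_zero one_ne_zero h0
  have := FiniteField.even_card_of_char_two (F := F) (ringChar.eq F 2)
  rw [← Nat.card_eq_fintype_card, hq3] at this
  omega

variable {L s : ℕ} (S : SmallSetup Q B τ L s)

include S

theorem SmallSetup.p_eq : p = Nat.card F := by
  have hdvd := S.toBase.prime_dvd
  rcases S.q23 with hq | hq <;> rw [hq] at hdvd ⊢
  · exact (Nat.prime_dvd_prime_iff_eq (Fact.out : p.Prime) Nat.prime_two).mp hdvd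
  · exact (Nat.prime_dvd_prime_iff_eq (Fact.out : p.Prime) Nat.prime_three).mp hdvd

theorem SmallSetup.exists_nat (c : F) : ∃ n : ℕ, (n : F) = c := by
  have := charP_of_hom S.tau
  have := Fintype.ofFinite F
  obtain ⟨z, hz⟩ := (ZMod.castHom_injective F (n := p)).bijective_of_nat_card_le
    (by rw [Nat.card_zmod, S.p_eq]) |>.2 c
  exact ⟨z.val, by rw [← hz, ZMod.castHom_apply, ZMod.natCast_val]⟩

theorem SmallSetup.smul_mem (A : AddSubgroup (ι → F)) {a : ι → F} (ha : a ∈ A) (c : F) :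
    c • a ∈ A := by
  obtain ⟨n, rfl⟩ := S.exists_nat c
  rw [Nat.cast_smul_eq_nsmul]
  exact A.nsmul_mem ha n

theorem SmallSetup.card_ge {v f : ι → F} (h : Hyp Q B ⊤ v f) {a : ι → F} (hQa : Q a ≠ 0) :
    L ≤ (cls Q (X B v f) a).ncard := by
  refine (S.lev v f h (Q a) hQa).trans ?_
  rw [level, ← Nat.card_coe_set_eq]
  refine Nat.card_le_card_of_injective (fun x => ⟨x.1, x.2.1, fun h0 => hQa ?_,
    1, one_ne_zero, by rw [x.2.2, one_pow, one_mul]⟩) fun x y e =>
    Subtype.ext (congrArg (fun x => x.1) e)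
  rw [← x.2.2, h0, S.space.zero]

open scoped Classical in
/-- Over two elements at most three quarters of a subgroup are non-singular. -/
theorem SmallSetup.quad_count (hq2 : Nat.card F = 2) (A : AddSubgroup (ι → F))
    {Cs : Finset (ι → F)} (hCs : ∀ c ∈ Cs, Q c ≠ 0) :
    4 * (Cs.filter fun c => c ∈ A).card ≤ 3 * Nat.card ↥A := by
  classical
  have C := S.space
  have := Fintype.ofFinite F
  have h01 : ∀ y : F, y = 0 ∨ y = 1 := fun y => by
    by_contra hy
    push Not at hy
    have : ({0, 1, y} : Finset F).card ≤ 2 := by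
      rw [← hq2, Nat.card_eq_fintype_card, ← Finset.card_univ]
      exact Finset.card_le_card (Finset.subset_univ _)
    simp [Ne.symm hy.1, Ne.symm hy.2] at this
  have h2 : (2 : F) = 0 := by
    have := FiniteField.cast_card_eq_zero F
    rw [← Nat.card_eq_fintype_card, hq2] at this
    exact_mod_cast this
  set g : ↥A → ℕ := fun w => if Q w.1 ≠ 0 then 1 else 0 with hg
  have hN : (Cs.filter fun c => c ∈ A).card ≤ ∑ w, g w := by
    rw [Finset.sum_boole]
    simp only [Nat.cast_id]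
    refine (Finset.card_le_card (t := (Finset.univ.filter fun w : ↥A => Q w.1 ≠ 0).image
      Subtype.val) fun c hc => ?_).trans Finset.card_image_le
    obtain ⟨hc, hcA⟩ := Finset.mem_filter.mp hc
    exact Finset.mem_image.mpr ⟨⟨c, hcA⟩, Finset.mem_filter.mpr ⟨Finset.mem_univ _, hCs c hc⟩, rfl⟩
  have hsh : ∀ z : ↥A, ∑ w, g (w + z) = ∑ w, g w := fun z =>
    Fintype.sum_equiv (Equiv.addRight z) _ _ fun w => rfl
  rw [Nat.card_eq_fintype_card]
  by_cases hB : ∃ y z : ↥A, B y.1 z.1 ≠ 0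
  · obtain ⟨y, z, hyz⟩ := hB
    have h4 : ∀ w : ↥A, g w + g (w + y) + g (w + z) + g (w + (y + z)) ≤ 3 := fun w => by
      by_contra hgt
      have e : ∀ w' : ↥A, g w' ≤ 1 := fun w' => by simp only [hg]; split_ifs <;> omega
      have e1 : ∀ w' : ↥A, g w' = 1 → Q w'.1 = 1 := fun w' he => by
        refine (h01 _).resolve_left fun h0 => ?_
        simp [hg, h0] at he
      have i1 := e w; have i2 := e (w + y); have i3 := e (w + z); have i4 := e (w + (y + z))
      have q1 := e1 w (by omega)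
      have q2 := e1 (w + y) (by omega)
      have q3 := e1 (w + z) (by omega)
      have q4 := e1 (w + (y + z)) (by omega)
      simp only [AddSubgroup.coe_add, C.add, map_add] at q2 q3 q4
      exact hyz (by linear_combination q4 - q2 - q3 + q1)
    have h5 := Finset.sum_le_sum (s := Finset.univ) fun w _ => h4 w
    simp only [Finset.sum_add_distrib, hsh, Finset.sum_const, Finset.card_univ, smul_eq_mul] at h5
    omega
  · push Not at hB
    by_cases hex : ∃ y : ↥A, g y ≠ 0
    · obtain ⟨y, hy⟩ := hex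
      have hQy : Q y.1 = 1 := (h01 _).resolve_left fun h0 => hy (by simp [hg, h0])
      have h4 : ∀ w : ↥A, g w + g (w + y) ≤ 1 := fun w => by
        simp only [hg, AddSubgroup.coe_add, C.add, hB w y, add_zero, hQy]
        rcases h01 (Q w.1) with e | e <;> simp [e, h2, one_add_one_eq_two]
      have h5 := Finset.sum_le_sum (s := Finset.univ) fun w _ => h4 w
      simp only [Finset.sum_add_distrib, hsh, Finset.sum_const, Finset.card_univ, smul_eq_mul] at h5
      omega
    · push Not at hex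
      rw [Finset.sum_eq_zero fun w _ => hex w] at hN
      omega

variable {α : Type*} [MulAction ↥(Root Q B ⊤) α] [Fintype α] {v f : ι → F}
  (h : Hyp Q B ⊤ v f)

include h

/-- An element with singular centre in `a^⊥` preserves the annihilator on a large subspace. -/
theorem SmallSetup.exists_large_stab (hmoved : Nat.card α < Nat.card F ^ 2 * L ∨
      (Nat.card F = 2 ∧ 3 * Nat.card α < 4 * (Nat.card F ^ 2 * L))) {x : α}
    {a : ι → F} (ha : a ∈ aset τ Q B v f x) (hQa : Q a ≠ 0) {b : ι → F} (hb : b ∈ X B v f)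
    (hQb : Q b = 0) (hab : B a b = 0) :
    ∃ M : Submodule F (ι → F), finrank F (X B v f) ≤ finrank F M + 3 ∧
      ∀ c ∈ M, c ∈ X B v f ∧ B a c = 0 ∧ B b c = 0 ∧
        ∀ y ∈ aset τ Q B v f x, (sGL Q B b c).val *ᵥ y - y ∈ aset τ Q B v f x := by
  classical
  have C := S.space
  set A := aset τ Q B v f x
  set Z := X B v f ⊓ LinearMap.ker (B a) ⊓ LinearMap.ker (B b) with hZ
  have hZmem : ∀ {c}, c ∈ Z ↔ c ∈ X B v f ∧ B a c = 0 ∧ B b c = 0 := fun {c} => by
    simp [hZ, and_assoc]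
  set Φ : (ι → F) → AddSubgroup (ι → F) := fun c => A.map (tr (sGL Q B b c) 1)
  have hmul : ∀ c ∈ Z, ∀ d ∈ Z, Φ (c + d) = (Φ d).map (tr (sGL Q B b c) 1) := fun c hc d hd => by
    simp only [Φ]
    rw [AddSubgroup.map_map]
    refine congrArg (fun φ => AddSubgroup.map φ A) (AddMonoidHom.ext fun y => ?_)
    rw [AddMonoidHom.comp_apply, tr_apply, tr_apply, tr_apply, inv_one, one_smul, one_smul,
      one_smul, ← mul_act, sGL_mul C hQb (hZmem.mp hc).2.2 (hZmem.mp hd).2.2]
  have h0 : Φ 0 = A := by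
    show A.map (tr (sGL Q B b 0) 1) = A
    rw [sGL_zero_right C hQb, show tr (1 : GL ι F) (1 : F) = AddMonoidHom.id (ι → F) from
      AddMonoidHom.ext fun y => by simp [tr_apply], AddSubgroup.map_id]
  have hMadd : ∀ c ∈ Z, ∀ d ∈ Z, Φ c = A → Φ d = A → Φ (c + d) = A := fun c hc d hd hΦc hΦd => by
    rw [hmul c hc d hd, hΦd]; exact hΦc
  let M : Submodule F (ι → F) :=
    { carrier := {c | c ∈ Z ∧ Φ c = A}
      zero_mem' := ⟨Z.zero_mem, h0⟩
      add_mem' := fun {c d} hc hd => ⟨Z.add_mem hc.1 hd.1, hMadd c hc.1 d hd.1 hc.2 hd.2⟩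
      smul_mem' := fun t c hc => by
        obtain ⟨n, rfl⟩ := S.exists_nat t
        refine ⟨Z.smul_mem _ hc.1, ?_⟩
        induction n with
        | zero => rw [Nat.cast_zero, zero_smul]; exact h0
        | succ n ih =>
          rw [Nat.cast_succ, add_smul, one_smul]
          exact hMadd _ (Z.smul_mem _ hc.1) _ hc.1 ih hc.2 }
  refine ⟨M, ?_, fun c hc => ?_⟩
  · set Zs := (Z : Set (ι → F)).toFinite.toFinset
    have hfib : ∀ U ∈ Zs.image Φ, (Zs.filter fun c => Φ c = U).card ≤ Nat.card ↥M := by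
      intro U hU
      obtain ⟨c₀, hc₀, rfl⟩ := Finset.mem_image.mp hU
      replace hc₀ : c₀ ∈ Z := by simpa [Zs] using hc₀
      rw [show Nat.card ↥M = (M : Set (ι → F)).toFinite.toFinset.card
        from Nat.card_eq_card_finite_toFinset _]
      refine Finset.card_le_card_of_injOn (fun c => c - c₀) (fun c hc => ?_)
        (fun c _ d _ he => sub_left_injective he)
      obtain ⟨hcZ, hce⟩ := Finset.mem_filter.mp hc
      replace hcZ : c ∈ Z := by simpa [Zs] using hcZ
      simp only [Set.Finite.coe_toFinset, SetLike.mem_coe]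
      refine ⟨Z.sub_mem hcZ hc₀, ?_⟩
      have h1 := hmul c₀ hc₀ (c - c₀) (Z.sub_mem hcZ hc₀)
      rw [add_sub_cancel, hce] at h1
      exact (AddSubgroup.map_injective (tr_injective _ one_ne_zero) h1).symm
    have h1 := Finset.card_le_mul_card_image Zs _ hfib
    have himg : (Zs.image Φ).card < Nat.card F ^ 2 := by
      by_contra hge
      push Not at hge
      have hk : Nat.card F ^ 2 ≤
          ((asets (α := α) τ Q B v f).filter fun A' => a ∈ A' ∧ True).card := by
        refine hge.trans (Finset.card_le_card fun U hU => ?_)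
        obtain ⟨c, hc, rfl⟩ := Finset.mem_image.mp hU
        replace hc : c ∈ Z := by simpa [Zs] using hc
        obtain ⟨hcX, hac, hbc⟩ := hZmem.mp hc
        have hg := sGL_mem_root (U := X B v f) hb hcX hQb hbc
        obtain ⟨hgv, hgf⟩ := root_fix C h hg
        exact Finset.mem_filter.mpr ⟨mem_asets.mpr
          ⟨_, (aset_fix τ C h (root_mono le_top hg) hgv hgf x).symm⟩,
          ⟨a, ha, by
            rw [tr_apply, inv_one, one_smul, sGL_act C hQb hbc, C.symm b a, hab, C.symm c a, hac]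
            simp⟩, trivial⟩
      have ha0 : a ≠ 0 := fun h0 => hQa (h0 ▸ C.zero)
      have hcov := class_le S.toBase h (T := asets (α := α) τ Q B v f) subset_rfl
        (Cs := (cls Q (X B v f) a).toFinite.toFinset) (k := Nat.card F ^ 2) fun c hc => by
          have h1 := spread (α := α) S.toBase h (aset_le τ ha) ha0 (P := fun _ => True)
            (fun _ _ _ _ _ _ _ _ _ => trivial) ((Set.Finite.mem_toFinset _).mp hc)
          refine le_trans ?_ (le_trans h1 ?_)
          · exact hk.trans (le_of_eq (by congr))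
          refine Finset.card_le_card fun A' hA' => ?_
          simp only [Finset.mem_filter] at hA' ⊢
          exact ⟨hA'.1, hA'.2.1⟩
      rw [← Set.ncard_eq_toFinset_card] at hcov
      have h5 := Nat.mul_le_mul_left (Nat.card F ^ 2) (S.card_ge h hQa)
      rcases hmoved with hm | ⟨hq2, hm⟩
      · omega
      set T := asets (α := α) τ Q B v f
      set Cs := (cls Q (X B v f) a).toFinite.toFinset
      have hk' : ∀ c ∈ Cs, Nat.card F ^ 2 ≤ (T.filter fun A' => c ∈ A').card := fun c hc => by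
        have h1 := spread (α := α) S.toBase h (aset_le τ ha) ha0 (P := fun _ => True)
          (fun _ _ _ _ _ _ _ _ _ => trivial) ((Set.Finite.mem_toFinset _).mp hc)
        refine le_trans ?_ (le_trans h1 ?_)
        · exact hk.trans (le_of_eq (by congr))
        refine Finset.card_le_card fun A' hA' => ?_
        simp only [Finset.mem_filter] at hA' ⊢
        exact ⟨hA'.1, hA'.2.1⟩
      have h1 := Finset.card_nsmul_le_sum Cs (fun c => (T.filter fun A' => c ∈ A').card) _ hk'
      have h2 : ∑ c ∈ Cs, (T.filter fun A' => c ∈ A').card =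
          ∑ A' ∈ T, (Cs.filter fun c => c ∈ A').card :=
        Finset.sum_card_bipartiteAbove_eq_sum_card_bipartiteBelow fun c A' => c ∈ A'
      rw [h2, smul_eq_mul, mul_comm, ← Set.ncard_eq_toFinset_card] at h1
      have h3 : 4 * ∑ A' ∈ T, (Cs.filter fun c => c ∈ A').card ≤
          3 * ∑ A' ∈ T, Nat.card ↥A' := by
        rw [Finset.mul_sum, Finset.mul_sum]
        exact Finset.sum_le_sum fun A' _ => S.quad_count hq2 A' fun c hc => by
          obtain ⟨-, -, t, ht, hQ⟩ := (Set.Finite.mem_toFinset _).mp hc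
          rw [hQ]
          exact mul_ne_zero (pow_ne_zero 2 ht) hQa
      have h4 := sum_card_le S.toBase h (T := T) subset_rfl
      omega
    rw [show Zs.card = Nat.card ↥Z from (Nat.card_eq_card_finite_toFinset _).symm, card_submodule,
      card_submodule] at h1
    have h2 : Nat.card F ^ finrank F Z < Nat.card F ^ (finrank F M + 2) := by
      rw [pow_add]
      exact lt_of_le_of_lt h1 (Nat.mul_lt_mul_of_pos_left himg (pow_pos Nat.card_pos _))
    have h3 := (Nat.pow_lt_pow_iff_right (Finite.one_lt_card (α := F))).mp h2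
    have h4 := finrank_inf_ker_ge C (X B v f) a
    have h5 := finrank_inf_ker_ge C (X B v f ⊓ LinearMap.ker (B a)) b
    rw [← hZ] at h5
    omega
  · obtain ⟨hcX, hac, hbc⟩ := hZmem.mp hc.1
    refine ⟨hcX, hac, hbc, fun y hy => sub_mem ?_ hy⟩
    have h1 : (tr (sGL Q B b c) 1) y ∈ Φ c := ⟨y, hy, rfl⟩
    rw [hc.2, tr_apply, inv_one, one_smul] at h1
    exact h1

/-- The hyperplane case. -/
theorem SmallSetup.hyperplane_contra
    (hhyp : (Nat.card F - 1) * Nat.card α < L * Nat.card F ^ (Fintype.card ι - 3)) {x : α}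
    {a : ι → F} (ha : a ∈ X B v f) (hQa : Q a ≠ 0)
    (hY : ∀ y ∈ X B v f, B a y = 0 → y ∈ aset τ Q B v f x)
    (hfull : ¬ ∀ y ∈ X B v f, y ∈ aset τ Q B v f x) : False := by
  classical
  have C := S.space
  have h5 : 5 ≤ Fintype.card ι := by have := S.n7; omega
  have ha0 : a ≠ 0 := fun h0 => hQa (h0 ▸ C.zero)
  set Cs := (cls Q (X B v f) a).toFinite.toFinset with hCs
  have hex : ∀ c ∈ Cs, ∃ A ∈ asets (α := α) τ Q B v f,
      (∀ y ∈ X B v f, B c y = 0 → y ∈ A) ∧ ¬ ∀ y ∈ X B v f, y ∈ A := by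
    intro c hc
    obtain ⟨hcX, hc0, t, ht, hQ⟩ := (Set.Finite.mem_toFinset _).mp hc
    obtain ⟨g, hg, hgv, hgf, hga⟩ := exists_class_map C h5 h S.n7 ha hcX ha0 hc0 ht hQ
    have hI := root_le_iso C _ hg
    have hgf' : g.val *ᵥ f = t⁻¹⁻¹ • f := by rw [inv_inv]; exact hgf
    have htr := aset_transport τ C h h hg (inv_ne_zero ht) hgv hgf' x
    refine ⟨_, mem_asets.mpr ⟨mv Q B g x, rfl⟩, fun y hy hcy => ?_, fun hA => hfull fun y hy => ?_⟩
    · set y0 := (g⁻¹ : GL ι F).val *ᵥ (t⁻¹ • y) with hy0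
      have hv' : (g⁻¹ : GL ι F).val *ᵥ v = t • v := by
        conv_lhs => rw [show v = t • g.val *ᵥ v by rw [hgv, smul_smul, mul_inv_cancel₀ ht, one_smul]]
        rw [Matrix.mulVec_smul, inv_act]
      have hf' : (g⁻¹ : GL ι F).val *ᵥ f = t⁻¹ • f := by
        conv_lhs =>
          rw [show f = t⁻¹ • g.val *ᵥ f by rw [hgf, smul_smul, inv_mul_cancel₀ ht, one_smul]]
        rw [Matrix.mulVec_smul, inv_act]
      have hy0X : y0 ∈ X B v f := act_mem_X C h (inv_mem hI) ht hv' hf'
        (Submodule.smul_mem _ _ hy)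
      have hgy : g.val *ᵥ y0 = t⁻¹ • y := act_inv g _
      have hay : B a y0 = 0 := by
        have h1 := C.B_act hI a y0
        rw [hgy] at h1
        rw [← hga, map_smul, LinearMap.smul_apply, smul_eq_mul] at hcy
        rw [map_smul, smul_eq_mul, (mul_eq_zero.mp hcy).resolve_left ht, mul_zero] at h1
        exact h1.symm
      rw [← htr]
      refine ⟨y0, hY y0 hy0X hay, ?_⟩
      rw [tr_apply, inv_inv, hgy, smul_smul, mul_inv_cancel₀ ht, one_smul]
    · have h1 := hA (tr g t⁻¹ y) (Submodule.smul_mem _ _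
        (act_mem_X C h hI (inv_ne_zero ht) hgv hgf' hy))
      rw [← htr] at h1
      obtain ⟨z, hz, hze⟩ := h1
      rwa [← tr_injective g (inv_ne_zero ht) hze]
  choose! Φ hΦ hΦY hΦF using hex
  have hfib : ∀ A ∈ Cs.image Φ, (Cs.filter fun c => Φ c = A).card ≤ Nat.card F - 1 := by
    intro A hA
    obtain ⟨c, hc, rfl⟩ := Finset.mem_image.mp hA
    have := Fintype.ofFinite F
    rw [Nat.card_eq_fintype_card, ← Fintype.card_units (α := F), ← Finset.card_univ]
    refine (Finset.card_le_card (t := Finset.univ.image fun u : Fˣ => (u : F) • c)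
      fun d hd => ?_).trans Finset.card_image_le
    obtain ⟨hd, hde⟩ := Finset.mem_filter.mp hd
    obtain ⟨hcX, hc0, -⟩ := (Set.Finite.mem_toFinset _).mp hc
    obtain ⟨hdX, hd0, -⟩ := (Set.Finite.mem_toFinset _).mp hd
    have hmem : d ∈ Submodule.span F {c} := by
      by_contra hnot
      obtain ⟨w, hw, hcw, hdw⟩ : ∃ w ∈ X B v f, B c w = 0 ∧ B d w ≠ 0 := by
        by_contra hne
        push Not at hne
        exact hnot (mem_span_of_perp C (X_ndeg C h) hcX hc0 hdX hne)
      refine hΦF c hc fun z hz => ?_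
      rw [show z = (B d z * (B d w)⁻¹) • w + (z - (B d z * (B d w)⁻¹) • w) by abel]
      refine add_mem (hΦY c hc _ (Submodule.smul_mem _ _ hw) (by rw [map_smul, hcw, smul_zero])) ?_
      rw [← hde]
      exact hΦY d hd _ (Submodule.sub_mem _ hz (Submodule.smul_mem _ _ hw)) (by
        rw [map_sub, map_smul, smul_eq_mul, mul_assoc, inv_mul_cancel₀ hdw, mul_one, sub_self])
    obtain ⟨u, rfl⟩ := Submodule.mem_span_singleton.mp hmem
    exact Finset.mem_image.mpr
      ⟨Units.mk0 u fun h0 => hd0 (by rw [h0, zero_smul]), Finset.mem_univ _, rfl⟩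
  have h1 : Cs.card ≤ (Nat.card F - 1) * (Cs.image Φ).card :=
    Finset.card_le_mul_card_image Cs _ hfib
  have hsum := sum_card_le S.toBase h (T := Cs.image Φ) (fun A hA => by
    obtain ⟨c, hc, rfl⟩ := Finset.mem_image.mp hA
    exact hΦ c hc)
  have hdX := MinIndexOrth.finrank_X C h
  have hlow : ∀ A ∈ Cs.image Φ, Nat.card F ^ (Fintype.card ι - 3) ≤ Nat.card ↥A := by
    intro A hA
    obtain ⟨c, hc, rfl⟩ := Finset.mem_image.mp hA
    have hd := finrank_inf_ker_ge C (X B v f) c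
    calc Nat.card F ^ (Fintype.card ι - 3)
        ≤ Nat.card F ^ finrank F ↥(X B v f ⊓ LinearMap.ker (B c)) :=
          Nat.pow_le_pow_right Nat.card_pos (by omega)
      _ = Nat.card ↥(X B v f ⊓ LinearMap.ker (B c)) := (card_submodule _).symm
      _ ≤ _ := Nat.card_le_card_of_injective
          (fun y => ⟨y.1, hΦY c hc y.1 y.2.1 (LinearMap.mem_ker.mp y.2.2)⟩)
          fun y z e => Subtype.ext (congrArg (fun y => y.1) e)
  have h2 : (Cs.image Φ).card * Nat.card F ^ (Fintype.card ι - 3) ≤ Nat.card α := by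
    refine le_trans ?_ hsum
    rw [← smul_eq_mul]
    exact Finset.card_nsmul_le_sum _ _ _ hlow
  have h3 := S.card_ge h hQa
  rw [Set.ncard_eq_toFinset_card (cls Q (X B v f) a) (Set.toFinite _), ← hCs] at h3
  have h4 := Nat.mul_le_mul_right (Nat.card F ^ (Fintype.card ι - 3)) (h3.trans h1)
  rw [mul_assoc] at h4
  exact absurd (h4.trans (Nat.mul_le_mul_left _ h2)) (not_le.mpr hhyp)

/-- In dimension seven an annihilator contains no non-singular vector and a totally singular
line perpendicular to it, unless it is everything. -/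
theorem SmallSetup.two_lines_contra (hn : Fintype.card ι = 7) (hq3 : Nat.card F = 3)
    (hN : Nat.card α < 360)
    (hhyp : (Nat.card F - 1) * Nat.card α < L * Nat.card F ^ (Fintype.card ι - 3)) {x : α}
    {a : ι → F} (ha : a ∈ aset τ Q B v f x) (hQa : Q a ≠ 0)
    (hfull : ¬ ∀ y ∈ X B v f, y ∈ aset τ Q B v f x) {w₀ w : ι → F}
    (hw₀ : w₀ ∈ aset τ Q B v f x) (hw : w ∈ aset τ Q B v f x) (haw₀ : B a w₀ = 0)
    (haw : B a w = 0) (hQw₀ : Q w₀ = 0) (hQw : Q w = 0) (hww : B w₀ w = 0) (h0 : w₀ ≠ 0)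
    (hne : w ∉ Submodule.span F {w₀}) : False := by
  classical
  have C := S.space
  have h5 : 5 ≤ Fintype.card ι := by omega
  have := Fintype.ofFinite F
  have h2 : (2 : F) ≠ 0 := fun h0 => by
    haveI : CharP F 2 := CharTwo.of_one_ne_zero_of_two_eq_zero one_ne_zero h0
    have := FiniteField.even_card_of_char_two (F := F) (ringChar.eq F 2)
    rw [← Nat.card_eq_fintype_card, hq3] at this
    omega
  set A := aset τ Q B v f x with hA
  have haX := aset_le τ ha
  have ha0 : a ≠ 0 := fun h0 => hQa (h0 ▸ C.zero)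
  have hX := X_ndeg C h
  have hdX := MinIndexOrth.finrank_X C h
  set Y := X B v f ⊓ LinearMap.ker (B a) with hYdef
  have hmemY : ∀ {y}, y ∈ Y ↔ y ∈ X B v f ∧ B a y = 0 := fun {y} => by simp [hYdef]
  have haa : B a a ≠ 0 := by rw [C.self]; exact mul_ne_zero h2 hQa
  have hYn : NDeg B Y := fun y hy h1 => by
    refine hX y (hmemY.mp hy).1 fun z hz => ?_
    have hz' : z - (B a z * (B a a)⁻¹) • a ∈ Y := hmemY.mpr
      ⟨Submodule.sub_mem _ hz (Submodule.smul_mem _ _ haX), by
        rw [map_sub, map_smul, smul_eq_mul, mul_assoc, inv_mul_cancel₀ haa, mul_one, sub_self]⟩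
    have := h1 _ hz'
    rwa [map_sub, map_smul, C.symm y a, (hmemY.mp hy).2, smul_zero, sub_zero] at this
  have hYd : finrank F Y = 4 := by
    have h1 := finrank_inf_ker_ge C (X B v f) a
    have h3 : Y < X B v f := lt_of_le_of_ne inf_le_left fun he => haa
      (hmemY.mp ((SetLike.ext_iff.mp he a).mpr haX)).2
    have h4 := Submodule.finrank_lt_finrank_of_lt h3
    rw [← hYdef] at h1
    omega
  -- a hyperbolic basis of `Y`
  obtain ⟨u₀, H₀⟩ := exists_hyp C hYn (hmemY.mpr ⟨aset_le τ hw₀, haw₀⟩) h0 hQw₀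
  set w₁ := w - B u₀ w • w₀ with hw₁
  have hw₁A : w₁ ∈ A := sub_mem hw (S.smul_mem A hw₀ _)
  have hw₁0 : w₁ ≠ 0 := fun he => hne (Submodule.mem_span_singleton.mpr
    ⟨_, (sub_eq_zero.mp he).symm⟩)
  have hw₁Y : w₁ ∈ perp2 B Y w₀ u₀ := mem_perp2.mpr
    ⟨Y.sub_mem (hmemY.mpr ⟨aset_le τ hw, haw⟩) (Y.smul_mem _ H₀.memE),
      by simp [hw₁, hww, C.self_zero hQw₀], by simp [hw₁, H₀.pair' C]⟩
  obtain ⟨b, H₁⟩ := exists_hyp C (H₀.ndeg C hYn) hw₁Y hw₁0
    (by simp [hw₁, sub_eq_add_neg, ← neg_smul, C.add, C.smul, hQw, hQw₀, C.symm w w₀, hww])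
  obtain ⟨hu₀X, hau₀⟩ := hmemY.mp H₀.memF
  obtain ⟨hbY, hw₀b, hu₀b⟩ := mem_perp2.mp H₁.memF
  obtain ⟨-, hw₀w₁, hu₀w₁⟩ := mem_perp2.mp hw₁Y
  obtain ⟨hbX, hab⟩ := hmemY.mp hbY
  have hspan : ∀ y ∈ Y, y = B u₀ y • w₀ + B w₀ y • u₀ + B b y • w₁ + B w₁ y • b := by
    intro y hy
    have h1 := H₀.proj C hy
    have h3 := H₁.proj C h1
    have hd0 := finrank_step C H₀
    have hd1 := finrank_step C H₁
    have hbot : perp2 B (perp2 B Y w₀ u₀) w₁ b = ⊥ := Submodule.finrank_eq_zero.mp (by omega)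
    rw [hbot, Submodule.mem_bot] at h3
    have e1 : B b (y - B u₀ y • w₀ - B w₀ y • u₀) = B b y := by
      simp [C.symm b w₀, hw₀b, C.symm b u₀, hu₀b]
    have e2 : B w₁ (y - B u₀ y • w₀ - B w₀ y • u₀) = B w₁ y := by
      simp [C.symm w₁ w₀, hw₀w₁, C.symm w₁ u₀, hu₀w₁]
    rw [e1, e2, sub_eq_zero, sub_eq_iff_eq_add, sub_eq_iff_eq_add, sub_eq_iff_eq_add] at h3
    conv_lhs => rw [h3]
    abel
  -- the four movers
  set G : F → GL ι F := fun t => sGL Q B b (t • u₀) with hG
  have hbu : ∀ t : F, B b (t • u₀) = 0 := fun t => by simp [C.symm b u₀, hu₀b]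
  have hGw : ∀ t : F, (G t).val *ᵥ w₁ = w₁ + t • u₀ := fun t => by
    rw [hG, sGL_act C H₁.singF (hbu t), H₁.pair' C]
    simp [hu₀w₁, C.smul, H₀.singF]
  have hGw₀ : ∀ t : F, (G t).val *ᵥ w₀ = w₀ - t • b := fun t => by
    rw [hG, sGL_act C H₁.singF (hbu t)]
    simp [C.symm b w₀, hw₀b, C.symm u₀ w₀, H₀.pair]
  set h' := sGL Q B w₁ w₀ with hh'
  have hw₁w₀ : B w₁ w₀ = 0 := by rw [C.symm]; exact hw₀w₁
  have hGX : ∀ t : F, G t ∈ Root Q B (X B v f) := fun t =>
    sGL_mem_root hbX (Submodule.smul_mem _ _ hu₀X) H₁.singF (hbu t)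
  have hhX : h' ∈ Root Q B (X B v f) :=
    sGL_mem_root (aset_le τ hw₁A) (aset_le τ hw₀) H₁.singE hw₁w₀
  have hGa : ∀ t : F, (G t).val *ᵥ a = a := fun t => by
    rw [hG, sGL_act C H₁.singF (hbu t)]
    simp [C.symm b a, hab, C.symm u₀ a, hau₀]
  have hha : h'.val *ᵥ a = a := by
    rw [hh', sGL_act C H₁.singE hw₁w₀]
    simp [C.symm w₁ a, (hmemY.mp (mem_perp2.mp hw₁Y).1).2, C.symm w₀ a, haw₀]
  have hinf : (h' * G 1).val *ᵥ w₁ = u₀ ∧ (h' * G 1).val *ᵥ w₀ = -b := by
    constructor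
    · rw [mul_act, hGw, hh', sGL_act C H₁.singE hw₁w₀]
      simp [C.self_zero H₁.singE, C.symm w₁ u₀, hu₀w₁, hw₀w₁, H₀.pair, hQw₀]
    · rw [mul_act, hGw₀, hh', sGL_act C H₁.singE hw₁w₀]
      simp [hw₁w₀, H₁.pair, C.self_zero hQw₀, hw₀b, hQw₀]
      abel
  set g : Option F → GL ι F := fun i => i.elim (h' * G 1) G with hgdef
  have hgX : ∀ i, g i ∈ Root Q B (X B v f) ∧ (g i).val *ᵥ a = a := by
    rintro (_ | t)
    · exact ⟨mul_mem hhX (hGX 1), by show (h' * G 1).val *ᵥ a = a; rw [mul_act, hGa, hha]⟩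
    · exact ⟨hGX t, hGa t⟩
  have hinj : Function.Injective fun i => A.map (tr (g i) 1) := by
    intro i j he
    by_contra hij
    simp only at he
    set A' := A.map (tr (g i) 1) with hA'
    obtain ⟨x', hx'⟩ : ∃ x', aset τ Q B v f x' = A' := by
      obtain ⟨hgv, hgf⟩ := root_fix C h (hgX i).1
      exact ⟨_, (aset_fix τ C h (root_mono le_top (hgX i).1) hgv hgf x).symm⟩
    have hfull' : ¬ ∀ y ∈ X B v f, y ∈ aset τ Q B v f x' := fun hf => hfull fun y hy => by
      have hgy := hf _ (root_mem_U C (hgX i).1 hy)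
      rw [hx'] at hgy
      obtain ⟨z, hz, hze⟩ := hgy
      rw [tr_apply, inv_one, one_smul] at hze
      rwa [← act_injective (g i) hze]
    have hm : ∀ k, A.map (tr (g k) 1) = A' → ∀ y ∈ A, (g k).val *ᵥ y ∈ A' :=
      fun k hk y hy => hk ▸ ⟨y, hy, by rw [tr_apply, inv_one, one_smul]⟩
    have hsmul : ∀ {y : ι → F} (t : F), t ≠ 0 → t • y ∈ A' → y ∈ A' := fun {y} t ht hy => by
      have := S.smul_mem A' hy t⁻¹
      rwa [smul_smul, inv_mul_cancel₀ ht, one_smul] at this
    have hsome : ∀ t : F, A.map (tr (g (some t)) 1) = A' →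
        w₁ + t • u₀ ∈ A' ∧ w₀ - t • b ∈ A' := fun t ht =>
      ⟨hGw t ▸ hm (some t) ht w₁ hw₁A, hGw₀ t ▸ hm (some t) ht w₀ hw₀⟩
    have hnone : A.map (tr (g none) 1) = A' → u₀ ∈ A' ∧ b ∈ A' := fun ht => by
      have h1 := hm none ht w₁ hw₁A
      have h3 := hm none ht w₀ hw₀
      rw [show g none = h' * G 1 from rfl] at h1 h3
      rw [hinf.1] at h1
      rw [hinf.2] at h3
      exact ⟨h1, neg_mem_iff.mp h3⟩
    have hfin : ∀ t : F, A.map (tr (g (some t)) 1) = A' → u₀ ∈ A' → b ∈ A' →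
        w₁ ∈ A' ∧ w₀ ∈ A' ∧ u₀ ∈ A' ∧ b ∈ A' := fun t ht hu hb => by
      obtain ⟨h1, h3⟩ := hsome t ht
      exact ⟨(add_mem_cancel_right (S.smul_mem A' hu t)).mp h1,
        by simpa using add_mem h3 (S.smul_mem A' hb t), hu, hb⟩
    have h4 : w₁ ∈ A' ∧ w₀ ∈ A' ∧ u₀ ∈ A' ∧ b ∈ A' := by
      rcases i with _ | t <;> rcases j with _ | t'
      · exact absurd rfl hij
      · exact hfin t' he.symm (hnone rfl).1 (hnone rfl).2
      · exact hfin t rfl (hnone he.symm).1 (hnone he.symm).2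
      · have htt : t - t' ≠ 0 := sub_ne_zero.mpr fun e => hij (by rw [e])
        obtain ⟨h1, h3⟩ := hsome t rfl
        obtain ⟨h1', h3'⟩ := hsome t' he.symm
        refine hfin t rfl (hsmul _ htt ?_) (hsmul _ htt ?_)
        · convert sub_mem h1 h1' using 1; module
        · convert sub_mem h3' h3 using 1; module
    refine S.hyperplane_contra h hhyp haX hQa (fun y hy hay => ?_) hfull'
    rw [hx', hspan y (hmemY.mpr ⟨hy, hay⟩)]
    exact add_mem (add_mem (add_mem (S.smul_mem A' h4.2.1 _) (S.smul_mem A' h4.2.2.1 _))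
      (S.smul_mem A' h4.1 _)) (S.smul_mem A' h4.2.2.2 _)
  -- so each vector of the class lies in four annihilators
  have hk : 4 ≤ ((asets (α := α) τ Q B v f).filter fun A' => a ∈ A' ∧ True).card := by
    have hginj : Function.Injective g := fun i j he => hinj (by simp only [he])
    have hR := members_le S.toBase h ha (P := fun _ => True)
      (fun _ _ _ _ _ _ _ _ _ => trivial) trivial (R := Finset.univ.image g) (fun k hk => by
        obtain ⟨i, -, rfl⟩ := Finset.mem_image.mp hk; exact hgX i)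
      (fun k hk k' hk' he => by
        obtain ⟨i, -, rfl⟩ := Finset.mem_image.mp hk
        obtain ⟨j, -, rfl⟩ := Finset.mem_image.mp hk'
        exact congrArg g (hinj he))
    rw [Finset.card_image_of_injective _ hginj, Finset.card_univ, Fintype.card_option,
      ← Nat.card_eq_fintype_card, hq3] at hR
    exact hR.trans (le_of_eq (by congr))
  have hcov := class_le S.toBase h (T := asets (α := α) τ Q B v f) subset_rfl
    (Cs := (cls Q (X B v f) a).toFinite.toFinset) (k := 4) fun c hc => by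
      have h1 := spread (α := α) S.toBase h haX ha0 (P := fun _ => True)
        (fun _ _ _ _ _ _ _ _ _ => trivial) ((Set.Finite.mem_toFinset _).mp hc)
      refine le_trans ?_ (le_trans h1 ?_)
      · exact hk.trans (le_of_eq (by congr))
      refine Finset.card_le_card fun A' hA' => ?_
      simp only [Finset.mem_filter] at hA' ⊢
      exact ⟨hA'.1, hA'.2.1⟩
  rw [← Set.ncard_eq_toFinset_card] at hcov
  -- the class has at least ninety vectors
  have H₀' : Hyp Q B (X B v f) w₀ u₀ :=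
    ⟨aset_le τ hw₀, hu₀X, H₀.singE, H₀.singF, H₀.pair⟩
  have H₁' : Hyp Q B (perp2 B (X B v f) w₀ u₀) w₁ b :=
    ⟨mem_perp2.mpr ⟨aset_le τ hw₁A, hw₀w₁, hu₀w₁⟩, mem_perp2.mpr ⟨hbX, hw₀b, hu₀b⟩,
      H₁.singE, H₁.singF, H₁.pair⟩
  have l0 := level_step C H₀' (Q a)
  have l1 := level_step C H₁' (Q a)
  have e0 := finrank_step C H₀'
  have e1 := finrank_step C H₁'
  have hlow : 2 ≤ level Q (perp2 B (perp2 B (X B v f) w₀ u₀) w₁ b) (Q a) := by
    have hmem : ∀ y : ι → F, y = a ∨ y = -a →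
        y ∈ perp2 B (perp2 B (X B v f) w₀ u₀) w₁ b ∧ Q y = Q a := by
      have hm : a ∈ perp2 B (perp2 B (X B v f) w₀ u₀) w₁ b := mem_perp2.mpr
        ⟨mem_perp2.mpr ⟨haX, by rw [C.symm]; exact haw₀, by rw [C.symm]; exact hau₀⟩,
          by rw [C.symm]; exact (hmemY.mp (mem_perp2.mp hw₁Y).1).2, by rw [C.symm]; exact hab⟩
      rintro y (rfl | rfl)
      exacts [⟨hm, rfl⟩, ⟨Submodule.neg_mem _ hm, C.neg a⟩]
    have hcard : ({a, -a} : Finset (ι → F)).card = 2 := by
      refine Finset.card_pair fun he => ha0 ?_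
      have h1 : (2 : F) • a = 0 := by
        rw [two_smul]; nth_rewrite 2 [he]; rw [add_neg_cancel]
      exact (smul_eq_zero.mp h1).resolve_left h2
    rw [← hcard, level, ← Fintype.card_coe ({a, -a} : Finset (ι → F)),
      ← Nat.card_eq_fintype_card]
    exact Nat.card_le_card_of_injective (fun y => ⟨y.1, hmem y.1 (by
        rcases Finset.mem_insert.mp y.2 with e | e
        exacts [Or.inl e, Or.inr (Finset.mem_singleton.mp e)])⟩)
      fun y z e => Subtype.ext (congrArg (fun y => y.1) e)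
  have hge : level Q (X B v f) (Q a) ≤ (cls Q (X B v f) a).ncard := by
    rw [level, ← Nat.card_coe_set_eq]
    refine Nat.card_le_card_of_injective (fun x => ⟨x.1, x.2.1, fun h0 => hQa ?_,
      1, one_ne_zero, by rw [x.2.2, one_pow, one_mul]⟩) fun x y e =>
      Subtype.ext (congrArg (fun x => x.1) e)
    rw [← x.2.2, h0, C.zero]
  rw [hq3, show finrank F ↥(perp2 B (X B v f) w₀ u₀) = 3 by omega] at l0
  rw [hq3, show finrank F ↥(perp2 B (perp2 B (X B v f) w₀ u₀) w₁ b) = 1 by omega] at l1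
  push_cast at l0 l1
  omega

/-- An annihilator with a non-singular vector is a line or everything. -/
theorem SmallSetup.nonsing_cases (hmoved : Nat.card α < Nat.card F ^ 2 * L ∨
      (Nat.card F = 2 ∧ 3 * Nat.card α < 4 * (Nat.card F ^ 2 * L)))
    (hseven : Fintype.card ι = 7 → Nat.card F = 3 ∧ Nat.card α < 360)
    (hhyp : (Nat.card F - 1) * Nat.card α < L * Nat.card F ^ (Fintype.card ι - 3)) {x : α}
    {a : ι → F} (ha : a ∈ aset τ Q B v f x) (hQa : Q a ≠ 0) :
    (∀ b ∈ aset τ Q B v f x, b ∈ Submodule.span F {a}) ∨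
      ∀ y ∈ X B v f, y ∈ aset τ Q B v f x := by
  have C := S.space
  have haX := aset_le τ ha
  have ha0 : a ≠ 0 := fun h0 => hQa (h0 ▸ C.zero)
  have hX := X_ndeg C h
  have hdX := MinIndexOrth.finrank_X C h
  have h7 := S.n7
  refine or_iff_not_imp_left.mpr fun hline => ?_
  by_contra hfull
  push Not at hline
  obtain ⟨x₀, hx₀, hx₀a⟩ := hline
  set A := aset τ Q B v f x
  set Y := X B v f ⊓ LinearMap.ker (B a) with hYdef
  have hmemY : ∀ {y}, y ∈ Y ↔ y ∈ X B v f ∧ B a y = 0 := fun {y} => by simp [hYdef]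
  have hYd : finrank F (X B v f) ≤ finrank F Y + 1 := finrank_inf_ker_ge C _ a
  have hpart : ∀ b ∈ Y, Q b = 0 → b ≠ 0 → ∃ b', Hyp Q B Y b b' := by
    intro b hb hQb hb0
    refine exists_hyp_of_pair C hb hQb ?_
    by_contra hne
    push Not at hne
    obtain ⟨hbX, hab⟩ := hmemY.mp hb
    obtain ⟨s, rfl⟩ := Submodule.mem_span_singleton.mp
      (mem_span_of_perp C hX haX ha0 hbX fun y hy hay => hne y (hmemY.mpr ⟨hy, hay⟩))
    rw [C.smul, mul_eq_zero] at hQb
    exact hb0 (by rw [(pow_eq_zero_iff two_ne_zero).mp (hQb.resolve_right hQa), zero_smul])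
  have hspanY : Y ≤ Submodule.span F {w | w ∈ Y ∧ Q w = 0} := by
    obtain ⟨e, he, he0, hQe⟩ := Sing.exists_singular C.smul C.polar Y (by omega)
    obtain ⟨e', he'⟩ := hpart e he hQe he0
    exact span_sing_hyp C he'
  have hd : ∀ b ∈ Y, Q b = 0 → ∀ y, B b y = 1 → ∀ c, B b c = 0 →
      (sGL Q B b c).val *ᵥ y - y = c - (B c y + Q c) • b := fun b hb hQb y hby c hbc => by
    rw [sGL_act C hQb hbc, hby, one_smul, mul_one]
    abel
  have hsing : ∀ y ∈ X B v f, y ∉ Submodule.span F {a} → ∃ b ∈ Y, Q b = 0 ∧ B b y = 1 := by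
    intro y hy hya
    by_contra hne
    push Not at hne
    refine hya (mem_span_of_perp C hX haX ha0 hy fun z hz haz => ?_)
    rw [C.symm]
    refine (Submodule.span_le (p := LinearMap.ker (B.flip y))).mpr (fun w hw => ?_)
      (hspanY (hmemY.mpr ⟨hz, haz⟩))
    refine LinearMap.mem_ker.mpr ?_
    show B w y = 0
    by_contra hwy
    exact hne ((B w y)⁻¹ • w) (Y.smul_mem _ hw.1) (by rw [C.smul, hw.2, mul_zero])
      (by rw [map_smul, LinearMap.smul_apply, smul_eq_mul, inv_mul_cancel₀ hwy])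
  -- a second vector of `A` in `Y`
  obtain ⟨x₁, hx₁, hx₁Y, hx₁a⟩ : ∃ x₁ ∈ A, x₁ ∈ Y ∧ x₁ ∉ Submodule.span F {a} := by
    obtain ⟨b, hb, hQb, hbx⟩ := hsing x₀ (aset_le τ hx₀) hx₀a
    obtain ⟨hbX, hab⟩ := hmemY.mp hb
    obtain ⟨M, hM, hMmem⟩ := S.exists_large_stab h hmoved ha hQa hbX hQb hab
    have hnle : ¬ M ≤ Submodule.span F {a, b} := fun hle => by
      by_cases hn7 : Fintype.card ι = 7
      · have h2 := char_ne_two_of_three (hseven hn7).1
        have hMb : M ≤ Submodule.span F {b} := fun c hc => by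
          obtain ⟨t, s, rfl⟩ := Submodule.mem_span_pair.mp (hle hc)
          have h1 := (hMmem _ hc).2.1
          rw [map_add, map_smul, map_smul, C.self, hab, smul_zero, add_zero, smul_eq_mul] at h1
          rw [(mul_eq_zero.mp h1).resolve_right (mul_ne_zero h2 hQa), zero_smul, zero_add]
          exact Submodule.smul_mem _ _ (Submodule.mem_span_singleton_self b)
        have h1 := Submodule.finrank_mono hMb
        have h3 := finrank_span_le_card (R := F) ({b} : Set (ι → F))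
        simp only [Set.toFinset_singleton, Finset.card_singleton] at h3
        omega
      have h1 := Submodule.finrank_mono hle
      classical
      have h2 := finrank_span_le_card (R := F) ({a, b} : Set (ι → F))
      have h3 : ({a, b} : Set (ι → F)).toFinset.card ≤ 2 := by
        rw [Set.toFinset_insert, Set.toFinset_singleton]; exact Finset.card_le_two
      omega
    obtain ⟨c, hc, hcs⟩ := SetLike.not_le_iff_exists.mp hnle
    obtain ⟨hcX, hac, hbc, hcA⟩ := hMmem c hc
    have h1 := hcA x₀ hx₀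
    rw [hd b hb hQb x₀ hbx c hbc] at h1
    refine ⟨_, h1, hmemY.mpr ⟨Submodule.sub_mem _ hcX (Submodule.smul_mem _ _ hbX), ?_⟩,
      fun hm => hcs ?_⟩
    · rw [map_sub, map_smul, hac, hab, smul_zero, sub_zero]
    · obtain ⟨t, ht⟩ := Submodule.mem_span_singleton.mp hm
      exact Submodule.mem_span_pair.mpr ⟨t, B c x₀ + Q c, by rw [ht, sub_add_cancel]⟩
  -- singular vectors of `Y` not perpendicular to such a vector are in `A`
  have key : ∀ y ∈ A, y ∈ Y → ∀ b ∈ Y, Q b = 0 → B b y ≠ 0 → b ∈ A ∨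
      (Fintype.card ι = 7 ∧
        ∃ z ∈ A, z ∈ Y ∧ z ≠ 0 ∧ Q z = 0 ∧ B y z = 0 ∧ B b z = 0) := by
    intro y hy hyY b₀ hb₀ hQb₀ hby₀
    suffices hone : ∀ b ∈ Y, Q b = 0 → B b y = 1 → b ∈ A ∨ (Fintype.card ι = 7 ∧
        ∃ z ∈ A, z ∈ Y ∧ z ≠ 0 ∧ Q z = 0 ∧ B y z = 0 ∧ B b z = 0) by
      rcases hone ((B b₀ y)⁻¹ • b₀) (Y.smul_mem _ hb₀) (by rw [C.smul, hQb₀, mul_zero])
        (by rw [map_smul, LinearMap.smul_apply, smul_eq_mul, inv_mul_cancel₀ hby₀]) with
        h1 | ⟨hn7, z, hz, hzY, hz0, hQz, hyz, hbz⟩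
      · have h2 := S.smul_mem A h1 (B b₀ y)
        rw [smul_smul, mul_inv_cancel₀ hby₀, one_smul] at h2
        exact Or.inl h2
      · rw [map_smul, LinearMap.smul_apply, smul_eq_mul] at hbz
        exact Or.inr ⟨hn7, z, hz, hzY, hz0, hQz, hyz,
          (mul_eq_zero.mp hbz).resolve_left (inv_ne_zero hby₀)⟩
    intro b hb hQb hby
    obtain ⟨hbX, hab⟩ := hmemY.mp hb
    obtain ⟨M, hM, hMmem⟩ := S.exists_large_stab h hmoved ha hQa hbX hQb hab
    have hdA : ∀ c ∈ M, c - (B c y + Q c) • b ∈ A := fun c hc => by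
      obtain ⟨-, -, hbc, hcA⟩ := hMmem c hc
      have h1 := hcA y hy
      rwa [hd b hb hQb y hby c hbc] at h1
    by_cases hcc : ∃ c ∈ M, ∃ c' ∈ M, B c c' ≠ 0
    · obtain ⟨c, hc, c', hc', hcc⟩ := hcc
      set t := -(B c c')⁻¹ with ht
      have h4 := sub_mem (sub_mem (hdA (c + t • c') (M.add_mem hc (M.smul_mem _ hc'))) (hdA c hc))
        (hdA (t • c') (M.smul_mem _ hc'))
      have he : c + t • c' - (B (c + t • c') y + Q (c + t • c')) • b - (c - (B c y + Q c) • b) -
          (t • c' - (B (t • c') y + Q (t • c')) • b) = b := by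
        rw [C.add, map_add, LinearMap.add_apply, map_smul (B c), smul_eq_mul, ht]
        match_scalars <;> field_simp <;> ring
      exact Or.inl (he ▸ h4)
    push Not at hcc
    have hiso : ∀ {W : Submodule F (ι → F)}, W ≤ X B v f → (∀ u ∈ W, ∀ u' ∈ W, B u u' = 0) →
        2 * (finrank F W + 1) ≤ Fintype.card ι := fun hWX hW => iso_dim S.toBase h hWX hW
    by_cases h2 : (2 : F) = 0
    · by_cases haM : a ∈ M
      · have h1 := hdA a haM
        rw [(hmemY.mp hyY).2, zero_add] at h1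
        have h5 := S.smul_mem A (sub_mem ha h1) (Q a)⁻¹
        rw [sub_sub_cancel, smul_smul, inv_mul_cancel₀ hQa, one_smul] at h5
        exact Or.inl h5
      · exfalso
        have haa : B a a = 0 := by rw [C.self, h2, zero_mul]
        have hW : ∀ u ∈ M ⊔ Submodule.span F {a}, ∀ u' ∈ M ⊔ Submodule.span F {a}, B u u' = 0 := by
          intro u hu u' hu'
          obtain ⟨m, hm, s', hs, rfl⟩ := Submodule.mem_sup.mp hu
          obtain ⟨m', hm', s'', hs', rfl⟩ := Submodule.mem_sup.mp hu'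
          obtain ⟨r, rfl⟩ := Submodule.mem_span_singleton.mp hs
          obtain ⟨r', rfl⟩ := Submodule.mem_span_singleton.mp hs'
          simp [hcc m hm m' hm', haa, C.symm m a, (hMmem m hm).2.1, (hMmem m' hm').2.1]
        have h1 := hiso (sup_le (fun u hu => (hMmem u hu).1)
          ((Submodule.span_singleton_le_iff_mem _ _).mpr haX)) hW
        have hlt : M < M ⊔ Submodule.span F {a} := lt_of_le_of_ne le_sup_left fun he =>
          haM (he ▸ Submodule.mem_sup_right (Submodule.mem_span_singleton_self a))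
        have h3 := Submodule.finrank_lt_finrank_of_lt hlt
        omega
    · have h1 := hiso (fun u hu => (hMmem u hu).1) hcc
      have hts : ∀ u ∈ M, Q u = 0 := fun u hu => by
        have := hcc u hu u hu
        rw [C.self] at this
        exact (mul_eq_zero.mp this).resolve_left h2
      by_cases hn7 : Fintype.card ι = 7
      · obtain ⟨c, hc, hcb⟩ : ∃ c ∈ M, c ∉ Submodule.span F {b} :=
          SetLike.not_le_iff_exists.mp fun hle => by
            have h1 := Submodule.finrank_mono hle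
            have h3 := finrank_span_le_card (R := F) ({b} : Set (ι → F))
            simp only [Set.toFinset_singleton, Finset.card_singleton] at h3
            omega
        obtain ⟨hcX, hac, hbc, -⟩ := hMmem c hc
        refine Or.inr ⟨hn7, _, hdA c hc,
          hmemY.mpr ⟨Submodule.sub_mem _ hcX (Submodule.smul_mem _ _ hbX),
            by rw [map_sub, map_smul, hac, hab, smul_zero, sub_zero]⟩, fun h0 => hcb
              (Submodule.mem_span_singleton.mpr ⟨_, (sub_eq_zero.mp h0).symm⟩), ?_, ?_, ?_⟩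
        · rw [sub_eq_add_neg, ← neg_smul, C.add, C.smul, hts c hc, hQb, map_smul, C.symm c b, hbc]
          simp
        · rw [map_sub, map_smul, C.symm y b, hby, hts c hc, C.symm y c]
          simp
        · rw [map_sub, map_smul, C.self_zero hQb, hbc]
          simp
      exfalso
      have h8' : Fintype.card ι = 8 := by omega
      have := S.witt h8' h2 v f h M (fun u hu => (hMmem u hu).1) hts
      omega
  have key1 : ∀ y ∈ A, y ∈ Y → Q y = 0 → ∀ b ∈ Y, Q b = 0 → B b y ≠ 0 → b ∈ A := by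
    intro y hy hyY hQy b hb hQb hby
    refine (key y hy hyY b hb hQb hby).resolve_right ?_
    rintro ⟨hn7, z, hz, hzY, hz0, hQz, hyz, hbz⟩
    refine S.two_lines_contra h hn7 (hseven hn7).1 (hseven hn7).2 hhyp ha hQa hfull hy hz
      (hmemY.mp hyY).2 (hmemY.mp hzY).2 hQy hQz hyz (fun h0 => hby (by rw [h0, map_zero]))
      fun hm => ?_
    obtain ⟨r, rfl⟩ := Submodule.mem_span_singleton.mp hm
    rw [map_smul, smul_eq_mul, mul_eq_zero] at hbz
    exact hbz.elim (fun hr => hz0 (by rw [hr, zero_smul])) hby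
  obtain ⟨x₁, hx₁, hx₁Y, hx₁a, key⟩ : ∃ x₁ ∈ A, x₁ ∈ Y ∧ x₁ ∉ Submodule.span F {a} ∧
      ∀ b ∈ Y, Q b = 0 → B b x₁ ≠ 0 → b ∈ A := by
    by_cases hex : ∀ b ∈ Y, Q b = 0 → B b x₁ ≠ 0 → b ∈ A
    · exact ⟨x₁, hx₁, hx₁Y, hx₁a, hex⟩
    push Not at hex
    obtain ⟨b, hb, hQb, hbx, hbA⟩ := hex
    obtain ⟨-, z, hz, hzY, hz0, hQz, -, -⟩ := (key x₁ hx₁ hx₁Y b hb hQb hbx).resolve_left hbA
    refine ⟨z, hz, hzY, fun hm => ?_, key1 z hz hzY hQz⟩
    obtain ⟨r, rfl⟩ := Submodule.mem_span_singleton.mp hm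
    rw [C.smul, mul_eq_zero] at hQz
    exact hz0 (by rw [(pow_eq_zero_iff two_ne_zero).mp (hQz.resolve_right hQa), zero_smul])
  obtain ⟨b₀, hb₀, hQb₀, hb₀x⟩ := hsing x₁ (hmemY.mp hx₁Y).1 hx₁a
  have hb₀A : b₀ ∈ A := key b₀ hb₀ hQb₀ (by rw [hb₀x]; exact one_ne_zero)
  have hall : ∀ e ∈ Y, Q e = 0 → e ∈ A := by
    intro e he hQe
    by_cases hex : B e x₁ = 0
    · by_cases heb : B e b₀ = 0
      · have h1 := key (e + b₀) (Y.add_mem he hb₀)
          (by rw [C.add, hQe, hQb₀, heb]; simp)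
          (by rw [map_add, LinearMap.add_apply, hex, zero_add, hb₀x]; exact one_ne_zero)
        simpa using sub_mem h1 hb₀A
      · exact key1 b₀ hb₀A hb₀ hQb₀ e he hQe heb
    · exact key e he hQe hex
  have hall' : ∀ y ∈ Submodule.span F {w | w ∈ Y ∧ Q w = 0}, y ∈ A := fun y hy => by
    induction hy using Submodule.span_induction with
    | mem w hw => exact hall w hw.1 hw.2
    | zero => exact zero_mem _
    | add w w' _ _ ih ih' => exact add_mem ih ih'
    | smul c w _ ih => exact S.smul_mem A ih c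
  have hYA : ∀ y ∈ X B v f, B a y = 0 → y ∈ A :=
    fun y hy hay => hall' y (hspanY (hmemY.mpr ⟨hy, hay⟩))
  exact S.hyperplane_contra h hhyp haX hQa hYA hfull

end

end Cfsg.Lib.Linear.MinIndexOrth
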