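import Cfsg.Agent.Lib.Linear.MinIndexOrth.Small.Levels

/-!
# Spaces of odd dimension over three elements
-/

set_option autoImplicit false

namespace Cfsg.Lib.Linear.MinIndexOrth

open Module Cfsg.Lib.Linear.Orth

noncomputable section

variable {ι : Type} [Fintype ι] [DecidableEq ι] {F : Type*} [Field F] [Finite F]
  {Q : (ι → F) → F} {B : LinearMap.BilinForm F (ι → F)}

/-- The bound for odd dimension over three elements. -/
theorem le_card_odd_three {α : Type*} [MulAction ↥(Root Q B ⊤) α] [Finite α] [Nontrivial α]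
    [MulAction.IsPretransitive ↥(Root Q B ⊤) α] (C : Space Q B)
    (hq : Nat.card F = 3) {m : ℕ} (hm : 3 ≤ m) (hn : Fintype.card ι = 2 * m + 1)
    (hz : singNum Q + 1 = 9 ^ m) :
    3 ^ m * (3 ^ m - 1) ≤ 2 * Nat.card α := by
  classical
  have := Fintype.ofFinite α
  obtain ⟨j, rfl⟩ : ∃ j, m = j + 1 := ⟨m - 1, by omega⟩
  by_contra hlt
  push Not at hlt
  obtain ⟨p, hp, τ, hτ⟩ := exists_tau (F := F)
  have := Fact.mk hp
  set b := 3 ^ j with hb
  have hb9 : 9 ≤ b := (show 3 ^ 2 ≤ 3 ^ j from Nat.pow_le_pow_right (by omega) (by omega))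
  have hbb : 9 * b ≤ b ^ 2 := by rw [sq]; exact Nat.mul_le_mul_right b hb9
  have h9 : 9 ^ j = b ^ 2 := by rw [hb, ← pow_mul, mul_comm, pow_mul]; norm_num
  have hT : 3 ^ (j + 1) * (3 ^ (j + 1) - 1) + 3 * b = 9 * b ^ 2 := by
    have h1 : 1 ≤ 3 ^ (j + 1) := Nat.one_le_pow _ _ (by omega)
    zify [h1]; rw [hb]; push_cast; ring
  rw [pow_succ', h9] at hz
  have hdim : ∀ v f, Hyp Q B ⊤ v f → finrank F ↥(X B v f) = 2 * j + 1 := fun v f h => by
    have := MinIndexOrth.finrank_X C h; omega
  have h3b : 3 ^ (2 * j + 1) = 3 * b ^ 2 := by rw [hb]; ring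
  have hX : ∀ v f, Hyp Q B ⊤ v f → level Q (X B v f) 0 = b ^ 2 := by
    intro v f h
    have h1 := level_step C h (0 : F)
    rw [level_top_zero C, hz, show finrank F ↥(perp2 B ⊤ v f) = 2 * j + 1 from hdim v f h, hq] at h1
    have h3 : (3 : ℤ) ^ (2 * j + 1) = 3 * (b : ℤ) ^ 2 := by exact_mod_cast h3b
    push_cast at h1
    rw [h3] at h1
    change _ = 3 * (level Q (X B v f) 0 : ℤ) + _ at h1
    zify
    linarith
  have e3 : 3 ^ (Fintype.card ι - 3) = b ^ 2 := by
    rw [hb, ← pow_mul]; congr 1; omega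
  have e4 : 3 ^ (Fintype.card ι - 2) = 3 * b ^ 2 := by
    rw [← h3b]; congr 1; omega
  have hts : ∀ v f, Hyp Q B ⊤ v f → ∀ W : Submodule F (ι → F), W ≤ X B v f →
      (∀ w ∈ W, Q w = 0) → finrank F W ≤ j := fun v f h W hWX hW => by
    have := iso_dim (τ := τ) ⟨C, by omega, hτ⟩ h hWX fun y hy z hz => by
      have := hW _ (W.add_mem hy hz)
      rw [C.add, hW y hy, hW z hz] at this
      simpa using this
    omega
  have S : SmallBad Q B τ (3 ^ (j + 1) * (3 ^ (j + 1) - 1)) (b ^ 2 - b) (b ^ 2 - 1) α := by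
    refine { space := C, n7 := by omega, tau := hτ, q23 := Or.inr hq,
             lev := ?_, lev0 := ?_, witt := ?_, few := by rw [hq]; omega, le_sing := by omega,
             moved := Or.inl (by rw [hq]; omega),
             seven := fun h7 => ⟨hq, ?_⟩,
             hyper := ?_, coex := by rw [hq, e4]; omega,
             last := Or.inl (by rw [hq, e4]; omega), two := by rw [hq, e4]; omega,
             movers := by rw [hq]; omega, small_ts := ?_, small8 := ?_ }
    · intro v f h c hc
      rcases level_odd C hq hc j (X_ndeg C h) (hdim v f h) with h1 | h1 <;>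
        rw [h9, ← hb] at h1 <;> omega
    · intro v f h
      have := hX v f h
      omega
    · intro h8
      omega
    · obtain rfl : j = 2 := by omega
      norm_num
    · rw [hq, e3]
      have h1 : 9 * b ^ 2 ≤ (b ^ 2 - b) * b ^ 2 := Nat.mul_le_mul_right _ (by omega)
      omega
    · by_cases hm4 : 4 ≤ j + 1
      · refine Or.inl fun v f h W hWX hW => ?_
        have := hts v f h W hWX hW
        omega
      · refine Or.inr ⟨fun v f h W hWX hW => ?_, fun t ht => ?_⟩
        · have := hts v f h W hWX hW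
          omega
        · obtain rfl : j = 2 := by omega
          rw [hb] at ht ⊢
          rw [hq, show Fintype.card ι - 5 = 2 by omega] at ht
          rw [hq]
          norm_num at ht ⊢
          omega
    · intro v f h h8
      exact Or.inl ⟨by omega, char_ne_two_of_three hq⟩
  exact S.contra

/-- Proper subgroups of `PΩ` of odd dimension over three elements. -/
theorem index_lower_odd_three (C : Space Q B) (hq : Nat.card F = 3) {m : ℕ} (hm : 3 ≤ m)
    (hn : Fintype.card ι = 2 * m + 1) (hz : singNum Q + 1 = 9 ^ m)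
    (H : Subgroup (Cfsg.POmega F Q)) (hH : H ≠ ⊤) :
    3 ^ m * (3 ^ m - 1) ≤ H.index * 2 :=
  index_transfer C (by omega) (fun M _ =>
    le_card_odd_three (α := ↥(Root Q B ⊤) ⧸ M) C hq hm hn hz) H hH

/-- The stabiliser of a non-singular line. -/
theorem exists_index_odd_three (C : Space Q B) (hq : Nat.card F = 3) {m : ℕ} (hm : 3 ≤ m)
    (hn : Fintype.card ι = 2 * m + 1) (hz : singNum Q + 1 = 9 ^ m) :
    ∃ H : Subgroup (Cfsg.POmega F Q), H.index * 2 = 3 ^ m * (3 ^ m - 1) := by
  classical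
  have := Fintype.ofFinite F
  have h21 : (1 : F) ≠ -1 := fun h11 => char_ne_two_of_three hq (by linear_combination h11)
  have h0 := sum_three (Q := Q) hq (⊤ : Submodule F (ι → F))
  have hd : finrank F ↥(⊤ : Submodule F (ι → F)) = 2 * m + 1 := by
    rw [finrank_top, finrank_fintype_fun_eq_card, hn]
  rw [level_top_zero C, hz, hd] at h0
  have hp : (3 : ℕ) ^ (2 * m + 1) = 3 * 9 ^ m := by rw [pow_succ', pow_mul]; norm_num
  have hpos : 0 < (3 : ℕ) ^ m := pow_pos (by omega) _
  obtain ⟨c, hc, hlev⟩ : ∃ c : F, c ≠ 0 ∧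
      level Q (⊤ : Submodule F (ι → F)) c + 3 ^ m = 9 ^ m := by
    rcases level_odd C hq (one_ne_zero (α := F)) m C.ndeg_top hd with h1 | h1
    · exact ⟨1, one_ne_zero, h1⟩
    rcases level_odd C hq (neg_ne_zero.mpr (one_ne_zero (α := F))) m C.ndeg_top hd with h2 | h2
    · exact ⟨-1, neg_ne_zero.mpr one_ne_zero, h2⟩
    omega
  have hsq : 3 ^ m * (3 ^ m - 1) + 3 ^ m = 9 ^ m := by
    rw [Nat.mul_sub, mul_one, ← mul_pow, show 3 * 3 = 9 from rfl]
    have : 3 ^ m ≤ 9 ^ m := Nat.pow_le_pow_left (by omega) m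
    omega
  obtain ⟨H, hH⟩ := exists_index_norm C (by omega) hc (by
    have : 3 ^ m < 9 ^ m := Nat.pow_lt_pow_left (by omega) (by omega)
    omega)
  refine ⟨H, ?_⟩
  have hk : Nat.card {t : F // t ^ 2 = 1} = 2 := by
    rw [Nat.card_eq_fintype_card, Fintype.card_subtype,
      show ((Finset.univ : Finset F).filter fun t => t ^ 2 = 1) = {1, -1} by
        ext t; simp [sq_eq_one_iff],
      Finset.card_pair h21]
  rw [hk] at hH
  omega

end

end Cfsg.Lib.Linear.MinIndexOrth
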