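import Cfsg.Agent.Lib.Linear.MinIndexOrth.Small.Levels

/-!
# Spaces of plus type over two elements
-/

set_option autoImplicit false

namespace Cfsg.Lib.Linear.MinIndexOrth

open Module Cfsg.Lib.Linear.Orth

noncomputable section

variable {ι : Type} [Fintype ι] [DecidableEq ι] {F : Type*} [Field F] [Finite F]
  {Q : (ι → F) → F} {B : LinearMap.BilinForm F (ι → F)}

/-- The bound for plus type over two elements. -/
theorem le_card_plus_two {α : Type*} [MulAction ↥(Root Q B ⊤) α] [Finite α] [Nontrivial α]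
    [MulAction.IsPretransitive ↥(Root Q B ⊤) α] (C : Space Q B)
    (hq : Nat.card F = 2) {m : ℕ} (hm : 4 ≤ m) (hn : Fintype.card ι = 2 * m)
    (hz : singNum Q = (2 ^ m - 1) * (2 ^ (m - 1) + 1)) :
    2 ^ (m - 1) * (2 ^ m - 1) ≤ Nat.card α := by
  classical
  have := Fintype.ofFinite α
  obtain ⟨j, rfl⟩ : ∃ j, m = j + 2 := ⟨m - 2, by omega⟩
  rw [show j + 2 - 1 = j + 1 by omega] at hz ⊢
  by_contra hlt
  push Not at hlt
  obtain ⟨p, hp, τ, hτ⟩ := exists_tau (F := F)
  have := Fact.mk hp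
  set b := 2 ^ j with hb
  have hb4 : 4 ≤ b := (show 2 ^ 2 ≤ 2 ^ j from Nat.pow_le_pow_right (by omega) (by omega))
  have hbb : 4 * b ≤ b ^ 2 := by rw [sq]; exact Nat.mul_le_mul_right b hb4
  have hT : 2 ^ (j + 1) * (2 ^ (j + 2) - 1) + 2 * b = 8 * b ^ 2 := by
    have h1 : 1 ≤ 2 ^ (j + 2) := Nat.one_le_pow _ _ (by omega)
    zify [h1]; rw [hb]; push_cast; ring
  have hS : singNum Q + 1 = 8 * b ^ 2 + 2 * b := by
    have h1 : 1 ≤ 2 ^ (j + 2) := Nat.one_le_pow _ _ (by omega)
    rw [hz]; zify [h1]; rw [hb]; push_cast; ring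
  have hdim : ∀ v f, Hyp Q B ⊤ v f → finrank F ↥(X B v f) = 2 * j + 2 := fun v f h => by
    have := MinIndexOrth.finrank_X C h; omega
  have h4b : 2 ^ (2 * j + 2) = 4 * b ^ 2 := by rw [hb]; ring
  have hX : ∀ v f, Hyp Q B ⊤ v f →
      level Q (X B v f) 0 = 2 * b ^ 2 + b ∧ level Q (X B v f) 1 + b = 2 * b ^ 2 := by
    intro v f h
    have h1 := level_step C h (0 : F)
    rw [level_top_zero C, hS, show finrank F ↥(perp2 B ⊤ v f) = 2 * j + 2 from hdim v f h, hq] at h1
    have h2 := sum_two (Q := Q) hq (X B v f)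
    rw [hdim v f h, h4b] at h2
    have h3 : (2 : ℤ) ^ (2 * j + 2) = 4 * (b : ℤ) ^ 2 := by exact_mod_cast h4b
    push_cast at h1
    rw [h3] at h1
    change _ = 2 * (level Q (X B v f) 0 : ℤ) + _ at h1
    have h5 : level Q (X B v f) 0 = 2 * b ^ 2 + b := by zify; linarith
    exact ⟨h5, by omega⟩
  have e3 : 2 ^ (Fintype.card ι - 3) = 2 * b ^ 2 := by
    rw [hb, ← pow_mul, ← pow_succ']; congr 1; omega
  have e4 : 2 ^ (Fintype.card ι - 2) = 4 * b ^ 2 := by
    rw [← h4b]; congr 1; omega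
  have hts : ∀ v f, Hyp Q B ⊤ v f → ∀ W : Submodule F (ι → F), W ≤ X B v f →
      (∀ w ∈ W, Q w = 0) → finrank F W ≤ j + 1 := fun v f h W hWX hW => by
    have := iso_dim (τ := τ) ⟨C, by omega, hτ⟩ h hWX fun y hy z hz => by
      have := hW _ (W.add_mem hy hz)
      rw [C.add, hW y hy, hW z hz] at this
      simpa using this
    omega
  have S : SmallBad Q B τ (2 ^ (j + 1) * (2 ^ (j + 2) - 1)) (2 * b ^ 2 - b)
      (2 * b ^ 2 + b - 1) α := by
    refine { space := C, n7 := by omega, tau := hτ, q23 := Or.inl hq,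
             lev := ?_, lev0 := ?_, witt := ?_, few := by rw [hq]; omega, le_sing := by omega,
             moved := Or.inr ⟨hq, by rw [hq]; omega⟩,
             seven := fun h7 => by omega,
             hyper := ?_, coex := by rw [hq, e4]; omega,
             last := Or.inl (by rw [hq, e4]; omega), two := by rw [hq, e4]; omega,
             movers := by rw [hq]; omega, small_ts := ?_, small8 := ?_ }
    · intro v f h c hc
      obtain rfl := (two_cases hq c).resolve_left hc
      have := (hX v f h).2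
      omega
    · intro v f h
      have := (hX v f h).1
      omega
    · intro _ h2
      exact absurd (by
        have := Fintype.ofFinite F
        have := FiniteField.cast_card_eq_zero F
        rw [← Nat.card_eq_fintype_card, hq] at this
        exact_mod_cast this) h2
    · rw [hq, e3]
      have h1 : 4 * (2 * b ^ 2) ≤ (2 * b ^ 2 - b) * (2 * b ^ 2) :=
        Nat.mul_le_mul_right _ (by omega)
      omega
    · by_cases hm5 : 5 ≤ j + 2
      · refine Or.inl fun v f h W hWX hW => ?_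
        have := hts v f h W hWX hW
        omega
      · refine Or.inr ⟨fun v f h W hWX hW => ?_, fun t ht => ?_⟩
        · have := hts v f h W hWX hW
          omega
        · obtain rfl : j = 2 := by omega
          rw [hb] at ht ⊢
          rw [hq, show Fintype.card ι - 5 = 3 by omega] at ht
          rw [hq]
          norm_num at ht ⊢
          omega
    · intro v f h h8
      exact Or.inr ⟨by omega, Or.inr hq⟩
  exact S.contra

/-- Proper subgroups of `Ω⁺` over two elements. -/
theorem index_lower_plus_two (C : Space Q B) (hq : Nat.card F = 2) {m : ℕ} (hm : 4 ≤ m)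
    (hn : Fintype.card ι = 2 * m) (hz : singNum Q = (2 ^ m - 1) * (2 ^ (m - 1) + 1))
    (H : Subgroup (Cfsg.POmega F Q)) (hH : H ≠ ⊤) :
    2 ^ (m - 1) * (2 ^ m - 1) ≤ H.index := by
  have h := index_transfer C (by omega) (T := 2 ^ (m - 1) * (2 ^ m - 1)) (k := 1) (fun M _ => by
    rw [one_mul]
    exact le_card_plus_two (α := ↥(Root Q B ⊤) ⧸ M) C hq hm hn hz) H hH
  rwa [mul_one] at h

/-- The stabiliser of a non-singular vector. -/
theorem exists_index_plus_two (C : Space Q B) (hq : Nat.card F = 2) {m : ℕ} (hm : 4 ≤ m)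
    (hn : Fintype.card ι = 2 * m) (hz : singNum Q = (2 ^ m - 1) * (2 ^ (m - 1) + 1)) :
    ∃ H : Subgroup (Cfsg.POmega F Q), H.index = 2 ^ (m - 1) * (2 ^ m - 1) := by
  obtain ⟨j, rfl⟩ : ∃ j, m = j + 2 := ⟨m - 2, by omega⟩
  rw [show j + 2 - 1 = j + 1 by omega] at hz ⊢
  have h0 := sum_two (Q := Q) hq (⊤ : Submodule F (ι → F))
  rw [finrank_top, finrank_fintype_fun_eq_card, hn, level_top_zero C, hz] at h0
  have hlev : level Q (⊤ : Submodule F (ι → F)) 1 = 2 ^ (j + 1) * (2 ^ (j + 2) - 1) := by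
    have h1 : 1 ≤ 2 ^ (j + 2) := Nat.one_le_pow _ _ (by omega)
    zify [h1] at h0 ⊢
    linear_combination h0
  obtain ⟨H, hH⟩ := exists_index_norm C (by omega) (one_ne_zero (α := F)) (by
    rw [hlev]
    have h1 : 2 ≤ 2 ^ (j + 2) := Nat.le_self_pow (by omega) 2
    exact Nat.mul_pos (pow_pos (by omega) _) (by omega))
  refine ⟨H, ?_⟩
  have hk : Nat.card {t : F // t ^ 2 = 1} = 1 := by
    rw [Nat.card_eq_one_iff_unique]
    refine ⟨⟨fun s t => Subtype.ext ?_⟩, ⟨⟨1, one_pow 2⟩⟩⟩
    have key : ∀ t : {t : F // t ^ 2 = 1}, t.1 = 1 := fun t =>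
      (two_cases hq t.1).resolve_left fun h0 => by
        have := t.2; rw [h0] at this; simp at this
    rw [key s, key t]
  rw [← hlev, ← hH, hk, mul_one]

end

end Cfsg.Lib.Linear.MinIndexOrth
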